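import Groth.Agent.FlatFibres.AicLift

/-!
# Residue fields along integral morphisms and of absolutely integrally closed schemes
-/

set_option autoImplicit false
set_option backward.isDefEq.respectTransparency false
set_option backward.isDefEq.respectTransparency.types false

universe u

open CategoryTheory AlgebraicGeometry

namespace Groth.Agent.EtCore73

theorem isAlgClosed_residueField_of_splitsAll {A : Type u} [CommRing A] [IsLocalRing A]
    (h : FlatFibres.SplitsAll A) : IsAlgClosed (IsLocalRing.ResidueField A) := by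
  refine IsAlgClosed.of_exists_root _ fun p hp hirr => ?_
  obtain ⟨q, hqp, hdeg, hq⟩ := Polynomial.lifts_and_degree_eq_and_monic
    ((Polynomial.lifts_iff_coeff_lifts p).2 fun n => IsLocalRing.residue_surjective (p.coeff n)) hp
  obtain ⟨s, hs⟩ := h q hq
  have hs' : p = (s.map fun a => Polynomial.X - Polynomial.C (IsLocalRing.residue A a)).prod := by
    rw [← hqp, hs, Polynomial.map_multiset_prod, Multiset.map_map]
    congr 1
    exact Multiset.map_congr rfl fun a _ => by simp
  rcases Multiset.empty_or_exists_mem s with rfl | ⟨a, ha⟩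
  · exact absurd (hs'.symm ▸ isUnit_one : IsUnit p) hirr.not_isUnit
  · refine ⟨IsLocalRing.residue A a, ?_⟩
    rw [hs', Polynomial.eval_multiset_prod, Multiset.map_map]
    exact Multiset.prod_eq_zero (Multiset.mem_map.2 ⟨a, ha, by simp⟩)

/-- residue field extensions along integral morphisms are algebraic -/
theorem isIntegral_residueFieldMap {X Y : Scheme.{u}} (f : X ⟶ Y) [IsIntegralHom f] (x : X) :
    (f.residueFieldMap x).hom.IsIntegral := by
  intro z
  obtain ⟨U, hU, hxU, -⟩ := exists_isAffineOpen_mem_and_subset (U := (⊤ : Y.Opens)) (x := f x) trivial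
  have hV : IsAffineOpen (f ⁻¹ᵁ U) := hU.preimage f
  let φ := (f.residueFieldMap x).hom
  letI : Algebra (Y.residueField (f x)) (X.residueField x) := φ.toAlgebra
  have key : ∀ a : Γ(X, f ⁻¹ᵁ U), IsIntegral (Y.residueField (f x)) (X.evaluation (f ⁻¹ᵁ U) x hxU a) := fun a => by
    obtain ⟨p, hp, hpa⟩ := IsIntegralHom.isIntegral_app (f := f) U hU a
    refine ⟨p.map (Y.evaluation U (f x) hxU).hom, hp.map _, ?_⟩
    rw [Polynomial.eval₂_map]
    have e : φ.comp (Y.evaluation U (f x) hxU).hom =
        (X.evaluation (f ⁻¹ᵁ U) x hxU).hom.comp (f.app U).hom :=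
      RingHom.ext fun b => Scheme.evaluation_naturality_apply f (V := U) x hxU b
    show Polynomial.eval₂ (φ.comp _) _ p = 0
    rw [e, ← Polynomial.hom_eval₂, hpa, map_zero]
  obtain ⟨z, rfl⟩ := X.residue_surjective x z
  letI : Algebra Γ(X, f ⁻¹ᵁ U) (X.presheaf.stalk x) := (X.presheaf.germ _ x hxU).hom.toAlgebra
  haveI : IsLocalization (hV.primeIdealOf ⟨x, hxU⟩).asIdeal.primeCompl (X.presheaf.stalk x) :=
    hV.isLocalization_stalk ⟨x, hxU⟩
  obtain ⟨⟨a, b⟩, rfl⟩ := IsLocalization.mk'_surjective (hV.primeIdealOf ⟨x, hxU⟩).asIdeal.primeCompl z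
  have hspec := congrArg (X.residue x)
    (IsLocalization.mk'_spec (X.presheaf.stalk x) a b)
  rw [map_mul] at hspec
  have hb : X.evaluation (f ⁻¹ᵁ U) x hxU (b : Γ(X, f ⁻¹ᵁ U)) ≠ 0 := by
    have h := (IsLocalization.map_units (X.presheaf.stalk x) b).map (X.residue x).hom
    exact h.ne_zero
  rw [show X.residue x (IsLocalization.mk' (X.presheaf.stalk x) a b) =
      X.evaluation (f ⁻¹ᵁ U) x hxU a / X.evaluation (f ⁻¹ᵁ U) x hxU (b : Γ(X, f ⁻¹ᵁ U)) from
    (eq_div_iff hb).2 hspec]
  show IsIntegral (Y.residueField (f x)) _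
  rw [← isAlgebraic_iff_isIntegral, div_eq_mul_inv]
  exact (key a).isAlgebraic.mul ((key b).isAlgebraic.inv)

end Groth.Agent.EtCore73
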