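import Groth.Agent.EtFound.CechSurjGen
import Groth.Agent.SiteBase.DerivedKernel
import Groth.Agent.SpObjSS.ExactCx
import Mathlib.Algebra.Homology.HomologySequence

/-! Cech cohomology as a derived functor of presheaves -/

universe w v u

open CategoryTheory CategoryTheory.Limits Opposite

namespace Groth.Agent.EtCore73.CechDerived

open Groth.Agent.SiteBase

section abstract

variable {A : Type*} [Category A] [Abelian A] [EnoughInjectives A] {B : Type*} [Category B] [Abelian B]
  (K : A ⥤ CochainComplex B ℕ) [K.Additive]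
  (hK : ∀ S : ShortComplex A, S.ShortExact → (S.map K).ShortExact)
  (hI : ∀ I : A, Injective I → ∀ p : ℕ, IsZero ((K.obj I).homology (p + 1)))

/-- cohomology of the complexes is presented by connecting maps -/
noncomputable def stepPres (q : ℕ) :
    StepPres (K ⋙ HomologicalComplex.homologyFunctor B (ComplexShape.up ℕ) q)
      (K ⋙ HomologicalComplex.homologyFunctor B (ComplexShape.up ℕ) (q + 1)) where
  d P := (hK _ (effSES_shortExact P)).δ q (q + 1) rfl
  w P := (hK _ (effSES_shortExact P)).comp_δ q (q + 1) rfl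
  isColimit P := @ShortComplex.Exact.gIsCokernel _ _ _ _ _
    ((hK _ (effSES_shortExact P)).homology_exact₃ q (q + 1) rfl)
    (((hK _ (effSES_shortExact P)).homology_exact₁ q (q + 1) rfl).epi_f
      ((hI _ (injective_effSES P) q).eq_of_tgt _ _))
  nat {P P'} φ := (HomologicalComplex.HomologySequence.δ_naturality (K.mapShortComplex.map φ)
    (hK _ (effSES_shortExact P)) (hK _ (effSES_shortExact P')) q (q + 1) rfl).symm

include hK hI in
theorem nonempty_iso (p : ℕ) :
    Nonempty ((K ⋙ HomologicalComplex.homologyFunctor B (ComplexShape.up ℕ) p) ≅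
      (K ⋙ HomologicalComplex.homologyFunctor B (ComplexShape.up ℕ) 0).rightDerived p) := by
  have : PreservesFiniteLimits (K ⋙ HomologicalComplex.homologyFunctor B (ComplexShape.up ℕ) 0) :=
    SpObjSS.preservesFiniteLimits_hZero K hK
  induction p with
  | zero => exact ⟨(K ⋙ HomologicalComplex.homologyFunctor B (ComplexShape.up ℕ) 0).rightDerivedZeroIsoSelf.symm⟩
  | succ p ih =>
    obtain ⟨e⟩ := ih
    exact nonempty_iso_of_stepPres (stepPres K hK hI p)
      (derivedStepPres (K ⋙ HomologicalComplex.homologyFunctor B (ComplexShape.up ℕ) 0) p) e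

end abstract

variable {C : Type u} [Category.{v} C] [LocallySmall.{w} C] {U : C} [HasFiniteProducts (Over U)]
  {ι : Type w} (Uf : ι → Over U)

/-- the Cech complex of presheaves -/
noncomputable abbrev cx : (Cᵒᵖ ⥤ AddCommGrpCat.{w}) ⥤ CochainComplex AddCommGrpCat.{w} ℕ :=
  (Functor.whiskeringLeft (Over U)ᵒᵖ Cᵒᵖ AddCommGrpCat.{w}).obj (Over.forget U).op ⋙ cechComplexFunctor Uf

open EtFound.CechInjGen EtFound.CechSurjGen in
theorem additive_cx : (cx Uf).Additive where
  map_add {P Q f g} := HomologicalComplex.hom_ext _ _ fun n => ConcreteCategory.hom_ext _ _ fun x =>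
    cev_ext Uf Q fun i => by
      refine (cev_map (f + g) n i x).trans ?_
      refine Eq.trans ?_ (map_add (cev Uf Q n i) _ _).symm
      exact (congrArg₂ (· + ·) (cev_map f n i x).symm (cev_map g n i x).symm)

open EtFound.CechInjGen EtFound.CechSurjGen in
theorem shortExact_cx [HasInjectiveResolutions (Cᵒᵖ ⥤ AddCommGrpCat.{w})]
    (S : ShortComplex (Cᵒᵖ ⥤ AddCommGrpCat.{w})) (hS : S.ShortExact) :
    haveI := additive_cx Uf
    (S.map (cx Uf)).ShortExact := by
  have := additive_cx Uf
  have hev : ∀ T, (S.map ((evaluation Cᵒᵖ AddCommGrpCat.{w}).obj T)).ShortExact := fun T =>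
    hS.map_of_exact _
  have hinj : ∀ T, Function.Injective (S.f.app T).hom := fun T =>
    (AddCommGrpCat.mono_iff_injective _).1 (hev T).mono_f
  have hex : ∀ T, ∀ y, (S.g.app T).hom y = 0 → ∃ x, (S.f.app T).hom x = y := fun T =>
    (ShortComplex.ab_exact_iff _).1 (hev T).exact
  have hsurj : ∀ T, Function.Surjective (S.g.app T).hom := fun T =>
    (AddCommGrpCat.epi_iff_surjective _).1 (hev T).epi_g
  refine HomologicalComplex.shortExact_of_degreewise_shortExact _ fun n => ShortComplex.ShortExact.mk' ?_ ?_ ?_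
  · refine (ShortComplex.ab_exact_iff _).2 fun a ha => ?_
    choose b hb using fun i => hex _ (cev Uf S.X₂ n i a) (by
      refine (cev_map S.g n i a).symm.trans ?_
      exact (congrArg (cev Uf S.X₃ n i) ha).trans (map_zero _))
    obtain ⟨b', hb'⟩ := exists_cev Uf S.X₁ (n := n) b
    exact ⟨b', cev_ext Uf S.X₂ fun i => (cev_map S.f n i b').trans (by rw [hb' i, hb i])⟩
  · refine (AddCommGrpCat.mono_iff_injective _).2 fun a b hab => cev_ext Uf S.X₁ fun i => hinj _ ?_
    exact ((cev_map S.f n i a).symm.trans (congrArg (cev Uf S.X₂ n i) hab)).trans (cev_map S.f n i b)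
  · refine (AddCommGrpCat.epi_iff_surjective _).2 fun z => ?_
    choose a ha using fun i => hsurj _ (cev Uf S.X₃ n i z)
    obtain ⟨a', ha'⟩ := exists_cev Uf S.X₂ (n := n) a
    exact ⟨a', cev_ext Uf S.X₃ fun i => (cev_map S.g n i a').trans (by rw [ha' i, ha i])⟩

theorem enoughInjectives_of_resolutions {A : Type*} [Category A] [Abelian A] [HasInjectiveResolutions A] :
    EnoughInjectives A :=
  ⟨fun X => ⟨{ J := (injectiveResolution X).cocomplex.X 0
               f := (injectiveResolution X).ι.f 0
               injective := (injectiveResolution X).injective 0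
               mono := (injectiveResolution X).instMonoFNatι 0 }⟩⟩

theorem nonempty_cechH_iso [(EtCech.cechHFunctor (C := C) Uf 0).Additive]
    [HasInjectiveResolutions (Cᵒᵖ ⥤ AddCommGrpCat.{w})] (p : ℕ) :
    Nonempty (EtCech.cechHFunctor (C := C) Uf p ≅ (EtCech.cechHFunctor (C := C) Uf 0).rightDerived p) := by
  have := enoughInjectives_of_resolutions (A := Cᵒᵖ ⥤ AddCommGrpCat.{w})
  have := additive_cx Uf
  exact nonempty_iso (cx Uf) (shortExact_cx Uf)
    (fun I _ q => EtFound.CechInjGen.isZero_cechH_injective Uf I q) p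

end Groth.Agent.EtCore73.CechDerived
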