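import Groth.Agent.PBC50.Agree
import Groth.Agent.EtFound.OpenSubterminal
import Groth.Prelude.Def_EtCore
import Mathlib.AlgebraicGeometry.Morphisms.Flat
import Mathlib.AlgebraicGeometry.PullbackCarrier

/-!
# Global sections of a pullback along a flat quasi-compact morphism with connected geometric fibres
-/

set_option autoImplicit false
set_option backward.isDefEq.respectTransparency false
set_option linter.style.haveILetI false

universe u

open CategoryTheory CategoryTheory.Limits AlgebraicGeometry Opposite TopologicalSpace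

namespace Groth.Agent.EtCore73

set_option backward.isDefEq.respectTransparency.types false

open Groth.Agent.PBC50

variable {T S : Scheme.{u}} (f : T ⟶ S)

/-- geometric points of etale schemes descend to the smaller separably closed field -/
theorem exists_point_factor {U : S.Etale} {Ω Ω' : Type u} [Field Ω] [IsSepClosed Ω] [Field Ω']
    (ξ : Spec (CommRingCat.of Ω) ⟶ S) (j : Spec (CommRingCat.of Ω') ⟶ Spec (CommRingCat.of Ω))
    (l : Spec (CommRingCat.of Ω') ⟶ U.left) (e : l ≫ U.hom = j ≫ ξ) :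
    ∃ u : (Scheme.pointSmallEtale ξ).fiber.obj U,
      j ≫ (u.left : Spec (CommRingCat.of Ω) ⟶ U.left) = l := by
  haveI : AlgebraicGeometry.Etale U.hom := U.prop
  let q := pullback.snd U.hom ξ
  let m := pullback.lift l j e
  haveI : AlgebraicGeometry.Etale q := inferInstance
  obtain ⟨σ, h1, h2⟩ := Scheme.exists_fac_of_etale_of_isSepClosed q (𝟙 (Spec (CommRingCat.of Ω)))
    (m.base (default : Spec (CommRingCat.of Ω'))) (Subsingleton.elim _ _)
  haveI : IsSplitMono σ := IsSplitMono.mk' ⟨q, h1⟩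
  haveI : AlgebraicGeometry.Etale σ := by
    haveI : AlgebraicGeometry.Etale (σ ≫ q) := by rw [h1]; infer_instance
    exact MorphismProperty.of_postcomp (W := @AlgebraicGeometry.Etale) (W' := @AlgebraicGeometry.Etale) σ q ‹_› this
  haveI : IsOpenImmersion σ := IsOpenImmersion.of_flat_of_mono σ
  have hr : Set.range m ⊆ Set.range σ := by
    rintro _ ⟨w, rfl⟩
    exact ⟨default, by rw [h2, Subsingleton.elim w default]⟩
  have hj : IsOpenImmersion.lift σ m hr = j := by
    have := congrArg (IsOpenImmersion.lift σ m hr ≫ ·) h1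
    simp only [IsOpenImmersion.lift_fac_assoc, Category.comp_id] at this
    rw [← this]
    exact pullback.lift_snd _ _ _
  refine ⟨CategoryTheory.Over.homMk (σ ≫ pullback.fst U.hom ξ) ?_, ?_⟩
  · show (σ ≫ pullback.fst U.hom ξ) ≫ U.hom = ξ
    rw [Category.assoc, pullback.condition, reassoc_of% h1]
  · show j ≫ σ ≫ pullback.fst U.hom ξ = l
    rw [← hj, IsOpenImmersion.lift_fac_assoc]
    exact pullback.lift_fst _ _ _

variable (F : EtCoh.Ab S) [EtCoh.BCCont f]

/-- sections are determined by their pullback along a surjective morphism -/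
theorem upSec_injective [Surjective f] (W : S.Etale) : Function.Injective (upSec F f W) := by
  intro a b h
  refine eq_of_germEq fun w => ?_
  obtain ⟨w', hw', -⟩ := Scheme.Pullback.exists_preimage_pullback (f := W.hom) (g := f) w
    ((f.surjective (W.hom w)).choose) ((f.surjective (W.hom w)).choose_spec).symm
  obtain ⟨Ω, _, _, ξ, t, ht⟩ := EtFound.exists_point_through ((EtCoh.bc f).obj W) w'
  have hpt : ptOf (EtFound.bcFiberEquiv f ξ W t) = w := by
    show ((t.left : Spec (CommRingCat.of Ω) ⟶ pullback W.hom f) ≫ pullback.fst W.hom f).base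
      (default : Spec (CommRingCat.of Ω)) = w
    exact (Scheme.Hom.comp_apply _ _ _).trans ((congrArg (pullback.fst W.hom f).base (ht default)).trans hw')
  rw [← hpt, ← germAt_eq_iff]
  refine pullIso_injective f ξ ?_
  rw [← germAt_upSec, ← germAt_upSec, h]

variable (σ : EtCoh.sect ((EtCoh.pull f).obj F) ((EtCoh.bc f).obj (EtCoh.top S)))

/-- where a global section of the inverse image agrees with the pullback of a section -/
def agreeLocus {U : S.Etale} (a : EtCoh.sect F U) : Set ((EtCoh.bc f).obj U).left :=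
  {w | GermEq ((EtCoh.pull f).obj F)
    (((EtCoh.pull f).obj F).obj.map ((EtCoh.bc f).map ((EtCore.topIsTerminal S).from U)).op σ) (upSec F f U a) w}

theorem isOpen_agreeLocus {U : S.Etale} (a : EtCoh.sect F U) : IsOpen (agreeLocus f F σ a) := isOpen_germEq _ _

variable {Ω : Type u} [Field Ω] [IsSepClosed Ω] (ξ : Spec (CommRingCat.of Ω) ⟶ S)

/-- the geometric fibre maps to pullbacks of etale schemes with a chosen point -/
noncomputable def fibMap {U : S.Etale} (u : (Scheme.pointSmallEtale ξ).fiber.obj U) :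
    pullback f ξ ⟶ ((EtCoh.bc f).obj U).left :=
  pullback.lift (pullback.snd f ξ ≫ (u.left : Spec (CommRingCat.of Ω) ⟶ U.left)) (pullback.fst f ξ) (by
    rw [Category.assoc]
    exact (congrArg (pullback.snd f ξ ≫ ·) (CategoryTheory.Over.w u)).trans pullback.condition.symm)

/-- the part of the geometric fibre with a given germ -/
def levelSet {U : S.Etale} (u : (Scheme.pointSmallEtale ξ).fiber.obj U) (a : EtCoh.sect F U) : Set ↥(pullback f ξ) :=
  (fibMap f ξ u).base ⁻¹' agreeLocus f F σ a

theorem isOpen_levelSet {U : S.Etale} (u : (Scheme.pointSmallEtale ξ).fiber.obj U) (a : EtCoh.sect F U) :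
    IsOpen (levelSet f F σ ξ u a) :=
  (isOpen_agreeLocus f F σ a).preimage (fibMap f ξ u).continuous

section point

variable {Ω' : Type u} [Field Ω'] [IsSepClosed Ω'] (τ : Spec (CommRingCat.of Ω') ⟶ pullback f ξ)

/-- the point of `T` under a point of the geometric fibre -/
noncomputable abbrev ptT : Spec (CommRingCat.of Ω') ⟶ T := τ ≫ pullback.fst f ξ

/-- a chosen point, seen over the bigger field -/
noncomputable def bigPt {U : S.Etale} (u : (Scheme.pointSmallEtale ξ).fiber.obj U) :
    (Scheme.pointSmallEtale (ptT f ξ τ ≫ f)).fiber.obj U :=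
  CategoryTheory.Over.homMk ((τ ≫ pullback.snd f ξ) ≫ (u.left : Spec (CommRingCat.of Ω) ⟶ U.left)) (by
    show ((τ ≫ pullback.snd f ξ) ≫ (u.left : Spec (CommRingCat.of Ω) ⟶ U.left)) ≫ U.hom = (τ ≫ pullback.fst f ξ) ≫ f
    rw [Category.assoc, Category.assoc]
    exact congrArg (τ ≫ ·) ((congrArg (pullback.snd f ξ ≫ ·) (CategoryTheory.Over.w u)).trans
      (pullback.condition (f := f) (g := ξ)).symm))

theorem ptOf_bigPt {U : S.Etale} (u : (Scheme.pointSmallEtale ξ).fiber.obj U) :
    ptOf (bigPt f ξ τ u) = ptOf u :=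
  (Scheme.Hom.comp_apply _ _ _).trans
    (congrArg (u.left : Spec (CommRingCat.of Ω) ⟶ U.left).base
      (Subsingleton.elim (α := Spec (CommRingCat.of Ω)) _ _))

/-- the global germ at a point -/
noncomputable abbrev sigmaGerm :=
  germAt ((EtCoh.pull f).obj F) ((EtFound.bcFiberEquiv f (ptT f ξ τ) (EtCoh.top S)).symm
    (CategoryTheory.Over.homMk (ptT f ξ τ ≫ f) (Category.comp_id _))) σ

theorem mem_levelSet_iff {U : S.Etale} (u : (Scheme.pointSmallEtale ξ).fiber.obj U) (a : EtCoh.sect F U) :
    τ.base default ∈ levelSet f F σ ξ u a ↔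
      sigmaGerm f F σ ξ τ = (EtFound.sheafFiberPullIso f (ptT f ξ τ)).inv.app F (germAt F (bigPt f ξ τ u) a) := by
  have hpt : ptOf ((EtFound.bcFiberEquiv f (ptT f ξ τ) U).symm (bigPt f ξ τ u)) =
      (fibMap f ξ u).base (τ.base default) := by
    show (pullback.lift ((τ ≫ pullback.snd f ξ) ≫ (u.left : Spec (CommRingCat.of Ω) ⟶ U.left))
      (τ ≫ pullback.fst f ξ) _).base default = _
    refine Eq.trans ?_ (Scheme.Hom.comp_apply τ (fibMap f ξ u) default)
    refine congrArg (fun g : Spec (CommRingCat.of Ω') ⟶ ((EtCoh.bc f).obj U).left => g.base default) ?_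
    apply pullback.hom_ext
    · exact (pullback.lift_fst _ _ _).trans ((Category.assoc _ _ _).trans
        ((congrArg (τ ≫ ·) (pullback.lift_fst _ _ _).symm).trans (Category.assoc _ _ _).symm))
    · exact (pullback.lift_snd _ _ _).trans
        ((congrArg (τ ≫ ·) (pullback.lift_snd _ _ _).symm).trans (Category.assoc _ _ _).symm)
  show (fibMap f ξ u).base (τ.base default) ∈ agreeLocus f F σ a ↔ _
  rw [← hpt]
  show GermEq _ _ _ _ ↔ _
  rw [← germAt_eq_iff, germAt_upSec, germAt_map]
  haveI : Mono (EtCoh.top S).hom := inferInstanceAs (Mono (𝟙 S))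
  haveI : Mono ((EtCoh.bc f).obj (EtCoh.top S)).hom := by
    show Mono (pullback.snd (𝟙 S) f)
    infer_instance
  have e : (Scheme.pointSmallEtale (ptT f ξ τ)).fiber.map ((EtCoh.bc f).map ((EtCore.topIsTerminal S).from U))
      ((EtFound.bcFiberEquiv f (ptT f ξ τ) U).symm (bigPt f ξ τ u)) =
      (EtFound.bcFiberEquiv f (ptT f ξ τ) (EtCoh.top S)).symm
        (CategoryTheory.Over.homMk (ptT f ξ τ ≫ f) (Category.comp_id _)) :=
    (subsingleton_fiber (ptT f ξ τ)).elim _ _
  rw [e]

theorem germ_bigPt_iff {U U' : S.Etale} (u : (Scheme.pointSmallEtale ξ).fiber.obj U) (a : EtCoh.sect F U)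
    (u' : (Scheme.pointSmallEtale ξ).fiber.obj U') (a' : EtCoh.sect F U') :
    germAt F (bigPt f ξ τ u) a = germAt F (bigPt f ξ τ u') a' ↔ germAt F u a = germAt F u' a' := by
  let w : (Scheme.pointSmallEtale ξ).fiber.obj (pairObj U U') :=
    CategoryTheory.Over.homMk (pullback.lift (u.left : Spec (CommRingCat.of Ω) ⟶ U.left) (u'.left : Spec (CommRingCat.of Ω) ⟶ U'.left)
      ((CategoryTheory.Over.w u).trans (CategoryTheory.Over.w u').symm)) (by
        show pullback.lift _ _ _ ≫ pullback.fst U.hom U'.hom ≫ U.hom = ξ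
        rw [pullback.lift_fst_assoc]
        exact CategoryTheory.Over.w u)
  have h1 : (Scheme.pointSmallEtale ξ).fiber.map (pairFst U U') w = u :=
    CategoryTheory.Over.OverMorphism.ext (pullback.lift_fst _ _ _)
  have h2 : (Scheme.pointSmallEtale ξ).fiber.map (pairSnd U U') w = u' :=
    CategoryTheory.Over.OverMorphism.ext (pullback.lift_snd _ _ _)
  have h3 : (Scheme.pointSmallEtale (ptT f ξ τ ≫ f)).fiber.map (pairFst U U') (bigPt f ξ τ w) = bigPt f ξ τ u :=
    CategoryTheory.Over.OverMorphism.ext (by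
      show ((τ ≫ pullback.snd f ξ) ≫ pullback.lift _ _ _) ≫ pullback.fst U.hom U'.hom = _
      rw [Category.assoc, pullback.lift_fst]
      rfl)
  have h4 : (Scheme.pointSmallEtale (ptT f ξ τ ≫ f)).fiber.map (pairSnd U U') (bigPt f ξ τ w) = bigPt f ξ τ u' :=
    CategoryTheory.Over.OverMorphism.ext (by
      show ((τ ≫ pullback.snd f ξ) ≫ pullback.lift _ _ _) ≫ pullback.snd U.hom U'.hom = _
      rw [Category.assoc, pullback.lift_snd]
      rfl)
  rw [← h3, ← h4, ← germAt_map, ← germAt_map, ← h1, ← h2, ← germAt_map, ← germAt_map]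
  rw [show germAt F (bigPt f ξ τ w) _ = germAt F (bigPt f ξ τ w) _ ↔ _ from germAt_eq_iff (F := F) _ _ _,
    show germAt F w _ = germAt F w _ ↔ _ from germAt_eq_iff (F := F) _ _ _, ptOf_bigPt]

end point

theorem germ_eq_of_mem {U U' : S.Etale} (u : (Scheme.pointSmallEtale ξ).fiber.obj U) (a : EtCoh.sect F U)
    (u' : (Scheme.pointSmallEtale ξ).fiber.obj U') (a' : EtCoh.sect F U') {p : ↥(pullback f ξ)}
    (h : p ∈ levelSet f F σ ξ u a) (h' : p ∈ levelSet f F σ ξ u' a') : germAt F u a = germAt F u' a' := by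
  let Ω' := SeparableClosure ((pullback f ξ).residueField p)
  let τ : Spec (CommRingCat.of Ω') ⟶ pullback f ξ :=
    Spec.map (CommRingCat.ofHom (algebraMap ((pullback f ξ).residueField p) Ω')) ≫ (pullback f ξ).fromSpecResidueField p
  have hτ : τ.base default = p := (Scheme.Hom.comp_apply _ _ _).trans (Scheme.fromSpecResidueField_apply p _)
  rw [← hτ] at h h'
  have e := pullIso_injective f (ptT f ξ τ)
    (((mem_levelSet_iff f F σ ξ τ u a).1 h).symm.trans ((mem_levelSet_iff f F σ ξ τ u' a').1 h'))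
  exact (germ_bigPt_iff f F ξ τ u a u' a').1 e

theorem exists_mem_levelSet (p : ↥(pullback f ξ)) :
    ∃ (U : S.Etale) (u : (Scheme.pointSmallEtale ξ).fiber.obj U) (a : EtCoh.sect F U), p ∈ levelSet f F σ ξ u a := by
  let Ω' := SeparableClosure ((pullback f ξ).residueField p)
  let τ : Spec (CommRingCat.of Ω') ⟶ pullback f ξ :=
    Spec.map (CommRingCat.ofHom (algebraMap ((pullback f ξ).residueField p) Ω')) ≫ (pullback f ξ).fromSpecResidueField p
  have hτ : τ.base default = p := (Scheme.Hom.comp_apply _ _ _).trans (Scheme.fromSpecResidueField_apply p _)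
  obtain ⟨U, t, a, ha⟩ := exists_germAt_upSec f (ptT f ξ τ) (sigmaGerm f F σ ξ τ)
  obtain ⟨u, hu⟩ := exists_point_factor ξ (τ ≫ pullback.snd f ξ) (t.left : Spec (CommRingCat.of Ω') ⟶ U.left) (by
    refine (CategoryTheory.Over.w t).trans ?_
    show (τ ≫ pullback.fst f ξ) ≫ f = _
    exact (Category.assoc _ _ _).trans ((congrArg (τ ≫ ·) pullback.condition).trans (Category.assoc _ _ _).symm))
  refine ⟨U, u, a, ?_⟩
  rw [← hτ, mem_levelSet_iff, show bigPt f ξ τ u = t from CategoryTheory.Over.OverMorphism.ext hu, ← germAt_upSec]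
  exact ha.symm

theorem levelSet_eq_of_germ_eq {U U' : S.Etale} (u : (Scheme.pointSmallEtale ξ).fiber.obj U) (a : EtCoh.sect F U)
    (u' : (Scheme.pointSmallEtale ξ).fiber.obj U') (a' : EtCoh.sect F U') (e : germAt F u a = germAt F u' a')
    {p : ↥(pullback f ξ)} (h : p ∈ levelSet f F σ ξ u a) : p ∈ levelSet f F σ ξ u' a' := by
  let Ω' := SeparableClosure ((pullback f ξ).residueField p)
  let τ : Spec (CommRingCat.of Ω') ⟶ pullback f ξ :=
    Spec.map (CommRingCat.ofHom (algebraMap ((pullback f ξ).residueField p) Ω')) ≫ (pullback f ξ).fromSpecResidueField p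
  have hτ : τ.base default = p := (Scheme.Hom.comp_apply _ _ _).trans (Scheme.fromSpecResidueField_apply p _)
  rw [← hτ] at h ⊢
  refine (mem_levelSet_iff f F σ ξ τ u' a').2 (((mem_levelSet_iff f F σ ξ τ u a).1 h).trans ?_)
  refine congrArg _ ?_
  exact (germ_bigPt_iff f F ξ τ u a u' a').2 e

theorem isClopen_levelSet {U : S.Etale} (u : (Scheme.pointSmallEtale ξ).fiber.obj U) (a : EtCoh.sect F U) :
    IsClopen (levelSet f F σ ξ u a) := by
  refine ⟨isOpen_compl_iff.1 (isOpen_iff_forall_mem_open.2 fun p hp => ?_), isOpen_levelSet f F σ ξ u a⟩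
  obtain ⟨U', u', a', h'⟩ := exists_mem_levelSet f F σ ξ p
  refine ⟨levelSet f F σ ξ u' a', fun q hq hq' => hp ?_, isOpen_levelSet f F σ ξ u' a', h'⟩
  exact levelSet_eq_of_germ_eq f F σ ξ u' a' u a (germ_eq_of_mem f F σ ξ u' a' u a hq hq') h'

omit ξ in
theorem agreeLocus_saturated
    (hc : ∀ (Ω : Type u) [Field Ω] [IsAlgClosed Ω] (s : Spec (CommRingCat.of Ω) ⟶ S), ConnectedSpace ↥(pullback f s))
    {U : S.Etale} (a : EtCoh.sect F U) {w w' : ((EtCoh.bc f).obj U).left}
    (e : (pullback.fst U.hom f).base w = (pullback.fst U.hom f).base w') (hw : w ∈ agreeLocus f F σ a) :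
    w' ∈ agreeLocus f F σ a := by
  obtain ⟨Ω, _, _, ξ, u, hu⟩ := EtFound.exists_algClosed_point U ((pullback.fst U.hom f).base w)
  let u₁ : Spec (CommRingCat.of Ω) ⟶ U.left := u.left
  have sq : IsPullback (fibMap f ξ u) (pullback.snd f ξ) (pullback.fst U.hom f) u₁ := by
    refine IsPullback.of_right (h₁₂ := pullback.snd U.hom f) (v₁₃ := f) (h₂₂ := U.hom) ?_ ?_
      (IsPullback.of_hasPullback U.hom f).flip
    · rw [show u₁ ≫ U.hom = ξ from CategoryTheory.Over.w u, fibMap, pullback.lift_snd]
      exact IsPullback.of_hasPullback f ξ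
    · rw [fibMap, pullback.lift_fst]
  have hsurj : ∀ z, (pullback.fst U.hom f).base z = (pullback.fst U.hom f).base w →
      ∃ p, (fibMap f ξ u).base p = z := by
    intro z hz
    obtain ⟨q, hq, -⟩ := Scheme.Pullback.exists_preimage_pullback (f := pullback.fst U.hom f) (g := u₁) z default
      (hz.trans hu.symm)
    refine ⟨sq.isoPullback.inv.base q, ?_⟩
    rw [← Scheme.Hom.comp_apply, sq.isoPullback_inv_fst]
    exact hq
  obtain ⟨p, rfl⟩ := hsurj w rfl
  obtain ⟨p', rfl⟩ := hsurj w' e.symm
  haveI := hc Ω ξ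
  have h : levelSet f F σ ξ u a = Set.univ := (isClopen_levelSet f F σ ξ u a).eq_univ ⟨p, hw⟩
  exact (h.ge trivial : p' ∈ levelSet f F σ ξ u a)

omit ξ in
/-- global sections of the inverse image along a flat quasi-compact morphism with connected geometric fibres -/
theorem bijective_unit_of_connected_fibres [Flat f] [QuasiCompact f]
    (hc : ∀ (Ω : Type u) [Field Ω] [IsAlgClosed Ω] (s : Spec (CommRingCat.of Ω) ⟶ S), ConnectedSpace ↥(pullback f s)) :
    Function.Bijective (((EtCoh.pullPushAdj f).unit.app F).hom.app (op (EtCoh.top S))) := by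
  classical
  haveI : Surjective f := ⟨fun s => by
    obtain ⟨Ω, _, _, ξ, u, hu⟩ := EtFound.exists_algClosed_point (EtCoh.top S) s
    haveI := hc Ω ξ
    obtain ⟨p⟩ : Nonempty ↥(pullback f ξ) := inferInstance
    refine ⟨(pullback.fst f ξ).base p, ?_⟩
    rw [← Scheme.Hom.comp_apply, pullback.condition, Scheme.Hom.comp_apply,
      Subsingleton.elim ((pullback.snd f ξ).base p) default]
    have h : (u.left : Spec (CommRingCat.of Ω) ⟶ S) ≫ 𝟙 S = ξ := CategoryTheory.Over.w u
    exact (congrArg (fun g : Spec (CommRingCat.of Ω) ⟶ S => g.base default)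
      (h.symm.trans (Category.comp_id _))).trans hu⟩
  refine ⟨upSec_injective f F (EtCoh.top S), fun σ => ?_⟩
  have hloc : ∀ s : S, ∃ (B : S.Etale) (b : EtCoh.sect F B), s ∈ Set.range B.hom ∧
      upSec F f B b = ((EtCoh.pull f).obj F).obj.map ((EtCoh.bc f).map ((EtCore.topIsTerminal S).from B)).op σ := by
    intro s
    obtain ⟨Ω, _, _, ξ, v, hv⟩ := EtFound.exists_algClosed_point (EtCoh.top S) s
    haveI := hc Ω ξ
    obtain ⟨p⟩ : Nonempty ↥(pullback f ξ) := inferInstance
    obtain ⟨U, u, a, hp⟩ := exists_mem_levelSet f F σ ξ p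
    haveI : AlgebraicGeometry.Etale U.hom := U.prop
    let π := pullback.fst U.hom f
    let G := agreeLocus f F σ a
    have hB : IsOpen (π.base '' G) := by
      rw [← (Flat.isQuotientMap_of_surjective π).isOpen_preimage]
      have : π.base ⁻¹' (π.base '' G) = G :=
        Set.Subset.antisymm (fun w' ⟨w, hw, e⟩ => agreeLocus_saturated f F σ hc a e hw) (Set.subset_preimage_image _ _)
      rw [this]
      exact isOpen_agreeLocus f F σ a
    let B : U.left.Opens := ⟨π.base '' G, hB⟩
    let U' : S.Etale := Scheme.Etale.mk (B.ι ≫ U.hom)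
    let k : U' ⟶ U := MorphismProperty.Over.homMk B.ι rfl trivial
    refine ⟨U', F.obj.map k.op a, ?_, ?_⟩
    · have hmem : ptOf u ∈ B := by
        refine ⟨(fibMap f ξ u).base p, hp, ?_⟩
        have h1 : fibMap f ξ u ≫ π = pullback.snd f ξ ≫ (u.left : Spec (CommRingCat.of Ω) ⟶ U.left) :=
          pullback.lift_fst _ _ _
        exact (Scheme.Hom.comp_apply (fibMap f ξ u) π p).symm.trans
          ((congrArg (fun g : pullback f ξ ⟶ U.left => g.base p) h1).trans ((Scheme.Hom.comp_apply _ _ _).trans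
            (congrArg (u.left : Spec (CommRingCat.of Ω) ⟶ U.left).base
              (Subsingleton.elim (α := Spec (CommRingCat.of Ω)) _ _))))
      refine ⟨⟨ptOf u, hmem⟩, ?_⟩
      refine (Scheme.Hom.comp_apply B.ι U.hom _).trans ?_
      have h1 : (u.left : Spec (CommRingCat.of Ω) ⟶ U.left) ≫ U.hom = ξ := CategoryTheory.Over.w u
      have h2 : (v.left : Spec (CommRingCat.of Ω) ⟶ S) ≫ 𝟙 S = ξ := CategoryTheory.Over.w v
      exact (Scheme.Hom.comp_apply (u.left : Spec (CommRingCat.of Ω) ⟶ U.left) U.hom _).symm.trans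
        ((congrArg (fun g : Spec (CommRingCat.of Ω) ⟶ S => g.base default)
          (h1.trans (h2.symm.trans (Category.comp_id _)))).trans hv)
    · refine eq_of_germEq fun w => ?_
      obtain ⟨Ω', _, _, ζ, t, ht⟩ := EtFound.exists_point_through ((EtCoh.bc f).obj U') w
      rw [← ht default, ← germAt_eq_iff, upSec_map,
        (EtCore.topIsTerminal S).hom_ext ((EtCore.topIsTerminal S).from U') (k ≫ (EtCore.topIsTerminal S).from U),
        Functor.map_comp, op_comp, Functor.map_comp, ConcreteCategory.comp_apply, germAt_map, germAt_map]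
      refine ((germAt_eq_iff (((EtCoh.pull f).obj F).obj.map ((EtCoh.bc f).map ((EtCore.topIsTerminal S).from U)).op σ)
        (upSec F f U a) ((Scheme.pointSmallEtale ζ).fiber.map ((EtCoh.bc f).map k) t)).2 ?_).symm
      have hfst : (pullback.fst U.hom f).base (((EtCoh.bc f).map k).left.base (ptOf t)) ∈ B := by
        have h1 : ((EtCoh.bc f).map k).left ≫ pullback.fst U.hom f = pullback.fst U'.hom f ≫ B.ι := pullback.lift_fst _ _ _
        have h2 : (pullback.fst U.hom f).base (((EtCoh.bc f).map k).left.base (ptOf t)) =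
            B.ι.base ((pullback.fst U'.hom f).base (ptOf t)) :=
          (Scheme.Hom.comp_apply ((EtCoh.bc f).map k).left (pullback.fst U.hom f) (ptOf t)).symm.trans
            ((congrArg (fun g : pullback U'.hom f ⟶ U.left => g.base (ptOf t)) h1).trans (Scheme.Hom.comp_apply _ _ _))
        rw [h2]
        exact ((pullback.fst U'.hom f).base (ptOf t)).2
      obtain ⟨w₀, hw₀, e⟩ := hfst
      have hmap : ptOf ((Scheme.pointSmallEtale ζ).fiber.map ((EtCoh.bc f).map k) t) =
          ((EtCoh.bc f).map k).left.base (ptOf t) := Scheme.Hom.comp_apply _ _ _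
      rw [hmap]
      exact agreeLocus_saturated f F σ hc a e hw₀
  choose B b hB hb using hloc
  obtain ⟨x, hx⟩ := exists_glue (B := EtCoh.top S) B (fun s => (EtCore.topIsTerminal S).from _)
    (fun (s : S) => by
      obtain ⟨y, hy⟩ := hB s
      refine ⟨s, y, ?_⟩
      have h := EtFound.apply_hom ((EtCore.topIsTerminal S).from (B s)) y
      exact h.trans hy) b
    fun j l W p q _ => upSec_injective f F W (by
      rw [upSec_map, upSec_map, hb, hb, mapMap, mapMap, ← Functor.map_comp, ← Functor.map_comp]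
      exact congrArg (fun m => ((EtCoh.pull f).obj F).obj.map ((EtCoh.bc f).map m).op σ)
        ((EtCore.topIsTerminal S).hom_ext _ _))
  refine ⟨x, eq_of_germEq (F := (EtCoh.pull f).obj F) (U := (EtCoh.bc f).obj (EtCoh.top S)) fun z => ?_⟩
  obtain ⟨s, y, hy⟩ : ∃ (s : S) (y : ((EtCoh.bc f).obj (B s)).left),
      ((EtCoh.bc f).map ((EtCore.topIsTerminal S).from (B s))).left.base y = z := by
    obtain ⟨y₀, hy₀⟩ := hB (f.base ((pullback.snd (𝟙 S) f).base z))
    obtain ⟨y, -, hy⟩ := Scheme.Pullback.exists_preimage_pullback (f := (B _).hom) (g := f) y₀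
      ((pullback.snd (𝟙 S) f).base z) hy₀
    refine ⟨_, y, (pullback.snd (𝟙 S) f).homeomorph.injective ?_⟩
    refine Eq.trans ?_ hy
    exact (Scheme.Hom.comp_apply ((EtCoh.bc f).map ((EtCore.topIsTerminal S).from (B _))).left
      (pullback.snd (𝟙 S) f) y).symm.trans
      (congrArg (fun g : pullback (B _).hom f ⟶ T => g.base y) (pullback.lift_snd _ _ _))
  refine ⟨_, (EtCoh.bc f).map ((EtCore.topIsTerminal S).from (B s)), ⟨y, hy⟩, ?_⟩
  exact (upSec_map F f _ x).symm.trans ((congrArg (upSec F f (B s)) (hx s)).trans (hb s))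

end Groth.Agent.EtCore73
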