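import Groth.Agent.EtCore73.ConstNormal
import Groth.Agent.EtBCA.FlabbyAcyclic
import Groth.Agent.AlgSpDec.EtStalkProps
import Groth.Agent.S0090
import Groth.Agent.EtFound.TopInv

/-!
# Constant sheaves are flabby on normal schemes with separably closed function field
-/

set_option autoImplicit false
set_option backward.isDefEq.respectTransparency false
set_option backward.isDefEq.respectTransparency.types false

universe u

open CategoryTheory CategoryTheory.Limits AlgebraicGeometry Opposite TopologicalSpace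

namespace Groth.Agent.EtCore73

open Groth.Agent Adeq2Lib.ZarFl

variable {W : Scheme.{u}} (M : AddCommGrpCat.{u + 1})

/-- constant sheaves are flasque when the irreducible components are disjoint and open -/
theorem flq_resZar_const_of_components
    (h1 : ∀ x : W, ∃! Z, Z ∈ irreducibleComponents ↥W ∧ x ∈ Z)
    (h2 : ∀ Z ∈ irreducibleComponents ↥W, IsOpen Z) [EtZar.ZarCont W] :
    Flq ((EtZar.resZar W).obj ((constantSheaf W.smallEtaleTopology AddCommGrpCat.{u + 1}).obj M)) := by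
  classical
  let F := (EtZar.resZar W).obj ((constantSheaf W.smallEtaleTopology AddCommGrpCat.{u + 1}).obj M)
  let sec : ∀ O : W.Opens, M → F.obj.obj (op O) := fun O m => HTop83.constSec M ((EtZar.zarToEt W).obj O) m
  have sec_map : ∀ {O O' : W.Opens} (h : O' ≤ O) (m : M), rz F h (sec O m) = sec O' m := fun h m =>
    (ConcreteCategory.comp_apply _ _ m).symm.trans
      (ConcreteCategory.congr_hom (HTop83.constSec_map M ((EtZar.zarToEt W).map (homOfLE h))) m)
  have hirr : ∀ (Z : irreducibleComponents ↥W) (O : W.Opens), ((O : Set W) ∩ Z.1).Nonempty →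
      IrreducibleSpace ↥((EtZar.zarToEt W).obj (O ⊓ ⟨Z.1, h2 Z.1 Z.2⟩)).left := fun Z O hne =>
    Subtype.irreducibleSpace ⟨hne, Z.2.1.2.open_subset (O.2.inter (h2 Z.1 Z.2)) Set.inter_subset_right⟩
  have hempty : ∀ (O : W.Opens), ¬ (O : Set W).Nonempty → ∀ a b : F.obj.obj (op O), a = b := fun O hO a b =>
    eq_of_coverZ F (I := PEmpty.{1}) PEmpty.elim (fun i => i.elim) (fun y hy => absurd ⟨y, hy⟩ hO) _ _
      fun i => i.elim
  intro V U hVU x
  let P : irreducibleComponents ↥W → W.Opens := fun Z => U ⊓ ⟨Z.1, h2 Z.1 Z.2⟩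
  let Q : irreducibleComponents ↥W → W.Opens := fun Z => V ⊓ ⟨Z.1, h2 Z.1 Z.2⟩
  have hm : ∀ Z, ∃ m : M, rz F (inf_le_left : Q Z ≤ V) x = sec (Q Z) m := fun Z => by
    by_cases hne : ((V : Set W) ∩ Z.1).Nonempty
    · haveI := hirr Z V hne
      obtain ⟨m, hm⟩ := (HTop83.bijective_of_constBy _ _
        (HTop83.constBy_constSec M ((EtZar.zarToEt W).obj (Q Z)))).2 (rz F (inf_le_left : Q Z ≤ V) x)
      exact ⟨m, hm.symm⟩
    · exact ⟨0, hempty _ hne _ _⟩
  choose m hm using hm
  have hcov : ∀ (O : W.Opens) (y : W), y ∈ O → ∃ Z : irreducibleComponents ↥W, y ∈ O ⊓ ⟨Z.1, h2 Z.1 Z.2⟩ :=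
    fun O y hy => by
      obtain ⟨Z, ⟨hZ, hyZ⟩, -⟩ := h1 y
      exact ⟨⟨Z, hZ⟩, hy, hyZ⟩
  obtain ⟨s, hs⟩ := glueZ F P (fun Z => inf_le_left) (hcov U) (fun Z => sec (P Z) (m Z))
    (fun Z Z' O p q => by
      by_cases hO : (O : Set W).Nonempty
      · obtain ⟨y, hy⟩ := hO
        obtain ⟨Z₀, -, hu⟩ := h1 y
        obtain rfl : Z = Z' := Subtype.ext ((hu Z.1 ⟨Z.2, (p hy).2⟩).trans (hu Z'.1 ⟨Z'.2, (q hy).2⟩).symm)
        exact (sec_map p _).trans (sec_map q _).symm
      · exact hempty O hO _ _)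
  refine ⟨s, eq_of_coverZ F Q (fun Z => inf_le_left) (hcov V) _ _ fun Z => ?_⟩
  rw [hm Z, rz_comp]
  have hQP : Q Z ≤ P Z := inf_le_inf_right _ hVU
  rw [← rz_comp F hQP (inf_le_left : P Z ≤ U), hs Z, sec_map]

/-- an etale scheme over a scheme with strictly henselian local rings has strictly henselian local rings -/
theorem isStrictlyHenselian_stalk_of_etale {X : Scheme.{u}}
    (hS : ∀ x : X, EtCoh.IsStrictlyHenselianLocalRing (X.presheaf.stalk x)) (g : W ⟶ X)
    [AlgebraicGeometry.Etale g] (w : W) : EtCoh.IsStrictlyHenselianLocalRing (W.presheaf.stalk w) := by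
  obtain ⟨O, σ, ⟨y, rfl⟩, hσ⟩ := HTop83.exists_open_section_through hS g w
  haveI : AlgebraicGeometry.Etale (σ ≫ g) := by rw [hσ]; infer_instance
  haveI : AlgebraicGeometry.Etale σ :=
    MorphismProperty.of_postcomp (W := @AlgebraicGeometry.Etale) (W' := @AlgebraicGeometry.Etale) σ g
      inferInstance inferInstance
  haveI : Mono (σ ≫ g) := by rw [hσ]; infer_instance
  haveI : Mono σ := mono_of_mono σ g
  haveI : IsOpenImmersion σ := EtFound.isOpenImmersion_of_etale_univInj σ
  obtain ⟨h1, h2⟩ := hS (O.ι y)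
  exact (AlgSpDec.EtStalkProps.isStrictlyHenselian_of_ringEquiv
    ((asIso (O.ι.stalkMap y)).commRingCatIsoToRingEquiv.trans
      (asIso (σ.stalkMap y)).commRingCatIsoToRingEquiv.symm)).2

/-- constant sheaves are flabby -/
theorem flabby_const {X : Scheme.{u}} [IsIntegral X] (hN : ∀ x : X, IsIntegrallyClosed (X.presheaf.stalk x))
    [IsSepClosed X.functionField] :
    BigSiteLib.Flabby ((constantSheaf X.smallEtaleTopology AddCommGrpCat.{u + 1}).obj M) := by
  intro T q hq
  obtain ⟨i, rfl⟩ : ∃ i, q = i + 1 := ⟨q - 1, by omega⟩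
  haveI : AlgebraicGeometry.Etale (T.hom : T.left ⟶ X) := T.prop
  obtain ⟨h1, h2⟩ := components_of_normal hN T
  have hS : ∀ w : T.left, EtCoh.IsStrictlyHenselianLocalRing (T.left.presheaf.stalk w) :=
    isStrictlyHenselian_stalk_of_etale (fun x => S0090.result X hN x) T.hom
  haveI := EtLC12.EtZarCompare.zarCont T.left
  obtain ⟨e⟩ := BigSiteLib.H_etale_iso_H_zar hS ((constantSheaf T.left.smallEtaleTopology AddCommGrpCat.{u + 1}).obj M) (i + 1)
  haveI := subsingleton_H_of_flq i _ (flq_resZar_const_of_components M h1 fun Z hZ => (h2 Z hZ).1)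
  exact @Equiv.subsingleton _ _ ((EtCoh.HF T.left (i + 1)).mapIso
    ((EtCore.pullConstIso (T.hom : T.left ⟶ X)).app M)).addCommGroupIsoToAddEquiv.toEquiv e.injective.subsingleton

end Groth.Agent.EtCore73
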