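import Groth.Agent.HTop83.ConstIrr
import Groth.Agent.IntBC.Branch
import Groth.Agent.S2787

/-!
# Constant sheaves on normal schemes are direct images from dense opens and from the generic point
-/

set_option autoImplicit false
set_option backward.isDefEq.respectTransparency false
set_option backward.isDefEq.respectTransparency.types false

universe u

open CategoryTheory CategoryTheory.Limits AlgebraicGeometry Opposite

namespace Groth.Agent.EtCore73

open Groth.Agent EtFound

variable {X : Scheme.{u}}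

theorem isIso_unit_const_of_irreducible (M : AddCommGrpCat.{u + 1}) {U : Scheme.{u}} (j : U ⟶ X)
    (hbc : ∀ T : X.Etale, IrreducibleSpace T.left → IrreducibleSpace ((EtCoh.bc j).obj T).left)
    (hnb : ∀ (V : X.Etale) (v : V.left), ∃ O : V.left.Opens, v ∈ O ∧ IsIrreducible (O : Set V.left)) :
    IsIso ((EtCoh.pullPushAdj j).unit.app ((constantSheaf X.smallEtaleTopology AddCommGrpCat.{u + 1}).obj M)) := by
  let F := (constantSheaf X.smallEtaleTopology AddCommGrpCat.{u + 1}).obj M
  let η := (EtCoh.pullPushAdj j).unit.app F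
  have key : ∀ T : X.Etale, IrreducibleSpace T.left → Function.Bijective (η.hom.app (op T)) := by
    intro T hT
    haveI := hbc T hT
    have hb := HTop83.bijective_of_constBy _ _ (constBy_pull j (HTop83.constBy_constSec M T))
    have hb' : Function.Bijective (η.hom.app (op T) ∘ HTop83.constSec M T) :=
      ⟨fun m m' e => hb.1 ((ConcreteCategory.comp_apply _ _ m).trans (e.trans (ConcreteCategory.comp_apply _ _ m').symm)),
        fun y => ⟨(hb.2 y).choose, (ConcreteCategory.comp_apply _ _ _).symm.trans (hb.2 y).choose_spec⟩⟩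
    exact (Function.Bijective.of_comp_iff _
      (HTop83.bijective_of_constBy _ _ (HTop83.constBy_constSec M T))).1 hb'
  refine isIso_of_stalks η fun Ω _ _ ξ => ?_
  have cofinal : ∀ (V : X.Etale) (v : (Scheme.pointSmallEtale ξ).fiber.obj V),
      ∃ (T : X.Etale) (g : T ⟶ V) (w : (Scheme.pointSmallEtale ξ).fiber.obj T),
        IrreducibleSpace T.left ∧ (Scheme.pointSmallEtale ξ).fiber.map g w = v := by
    intro V v
    haveI : AlgebraicGeometry.Etale V.hom := V.prop
    let v0 := (v.left : Spec (CommRingCat.of Ω) ⟶ V.left).base (default : Spec (CommRingCat.of Ω))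
    obtain ⟨O, hv, hO⟩ := hnb V v0
    let T : X.Etale := Scheme.Etale.mk (O.ι ≫ V.hom)
    let g : T ⟶ V := MorphismProperty.Over.homMk O.ι rfl
    obtain ⟨w, hw, -⟩ := exists_lift_point g v ⟨v0, hv⟩ rfl
    exact ⟨T, g, w, Subtype.irreducibleSpace hO, hw⟩
  refine ⟨fun p q e => ?_, fun p => ?_⟩
  · let Φ := Scheme.pointSmallEtale ξ
    obtain ⟨V, v, a, b, rfl, rfl⟩ := Φ.toPresheafFiber_jointly_surjective₂ p q
    obtain ⟨V₁, g₁, v₁, hv₁, he⟩ := (Φ.toPresheafFiber_eq_iff' _ _ _ _).1
      ((Φ.toPresheafFiber_naturality_apply η.hom V v a).symm.trans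
        (e.trans (Φ.toPresheafFiber_naturality_apply η.hom V v b)))
    obtain ⟨T, g, w, hT, hw⟩ := cofinal V₁ v₁
    subst hw
    subst hv₁
    refine (Φ.toPresheafFiber_eq_iff' _ _ _ _).2 ⟨_, g ≫ g₁, w, Functor.map_comp_apply _ _ _ _, (key T hT).1 ?_⟩
    have he' := congrArg (((EtCoh.pull j ⋙ EtCoh.push j).obj F).obj.map g.op) he
    rw [← Functor.map_comp_apply, ← Functor.map_comp_apply, ← op_comp] at he'
    exact (NatTrans.naturality_apply η.hom _ a).trans (he'.trans (NatTrans.naturality_apply η.hom _ b).symm)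
  · let Φ := Scheme.pointSmallEtale ξ
    obtain ⟨V, v, t, rfl⟩ := Φ.toPresheafFiber_jointly_surjective p
    obtain ⟨T, g, w, hT, hw⟩ := cofinal V v
    obtain ⟨a, ha⟩ := (key T hT).2 (((EtCoh.pull j ⋙ EtCoh.push j).obj F).obj.map g.op t)
    refine ⟨Φ.toPresheafFiber _ w F.obj a, ?_⟩
    refine (Φ.toPresheafFiber_naturality_apply η.hom _ w a).trans ?_
    rw [ha, Φ.toPresheafFiber_w_apply g w _ t, hw]

variable [IsIntegral X]

theorem components_of_normal (hN : ∀ x : X, IsIntegrallyClosed (X.presheaf.stalk x)) (V : X.Etale) :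
    (∀ v : V.left, ∃! Z, Z ∈ irreducibleComponents ↥V.left ∧ v ∈ Z) ∧
      ∀ Z ∈ irreducibleComponents ↥V.left, IsOpen Z ∧ ∃! v : V.left, v ∈ Z ∧ V.hom.base v = genericPoint X := by
  haveI : AlgebraicGeometry.Etale (V.hom : V.left ⟶ X) := V.prop
  exact S2787.result (Y := X) (V.hom : V.left ⟶ X) fun x =>
    haveI := hN x
    IntBC.isGeomUnibranch_of_branch (IntBC.branch_of_normal _)

theorem exists_irreducible_nbhd (hN : ∀ x : X, IsIntegrallyClosed (X.presheaf.stalk x)) (V : X.Etale)
    (v : V.left) : ∃ O : V.left.Opens, v ∈ O ∧ IsIrreducible (O : Set V.left) := by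
  obtain ⟨h1, h2⟩ := components_of_normal hN V
  obtain ⟨Z, ⟨hZ, hvZ⟩, -⟩ := h1 v
  exact ⟨⟨Z, (h2 Z hZ).1⟩, hvZ, hZ.1⟩

theorem existsUnique_generic (hN : ∀ x : X, IsIntegrallyClosed (X.presheaf.stalk x)) (T : X.Etale)
    [IrreducibleSpace T.left] : ∃! v : T.left, T.hom.base v = genericPoint X := by
  obtain ⟨-, h2⟩ := components_of_normal hN T
  have hu : (Set.univ : Set T.left) ∈ irreducibleComponents ↥T.left :=
    ⟨IrreducibleSpace.isIrreducible_univ _, fun s _ _ => Set.subset_univ s⟩
  obtain ⟨v, ⟨-, hv⟩, huv⟩ := (h2 _ hu).2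
  exact ⟨v, hv, fun w hw => huv w ⟨trivial, hw⟩⟩

/-- the unit into the direct image from a dense open -/
theorem isIso_unit_const_open (hN : ∀ x : X, IsIntegrallyClosed (X.presheaf.stalk x)) (M : AddCommGrpCat.{u + 1})
    {U : Scheme.{u}} (j : U ⟶ X) [IsOpenImmersion j] [Nonempty U] :
    IsIso ((EtCoh.pullPushAdj j).unit.app ((constantSheaf X.smallEtaleTopology AddCommGrpCat.{u + 1}).obj M)) := by
  refine isIso_unit_const_of_irreducible M j (fun T hT => ?_) (exists_irreducible_nbhd hN)
  obtain ⟨v, hv, -⟩ := existsUnique_generic hN T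
  have hη : genericPoint X ∈ Set.range j.base :=
    ((genericPoint_spec X).mem_open_set_iff j.isOpenEmbedding.isOpen_range).2 (by
      obtain ⟨w⟩ := ‹Nonempty U›
      exact ⟨_, trivial, w, rfl⟩)
  obtain ⟨w, hw⟩ := hη
  obtain ⟨z, -, -⟩ := Scheme.Pullback.exists_preimage_pullback (f := T.hom) (g := j) v w (hv.trans hw.symm)
  let p := pullback.fst T.hom j
  show IrreducibleSpace ↥(pullback T.hom j)
  haveI : Nonempty ↥(pullback T.hom j) := ⟨z⟩
  exact { isPreirreducible_univ := (IrreducibleSpace.isIrreducible_univ T.left).2.preimage p.isOpenEmbedding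
          toNonempty := ⟨z⟩ }

/-- the unit into the direct image from the generic point -/
theorem isIso_unit_const_generic (hN : ∀ x : X, IsIntegrallyClosed (X.presheaf.stalk x)) (M : AddCommGrpCat.{u + 1}) :
    IsIso ((EtCoh.pullPushAdj (X.fromSpecStalk (genericPoint X))).unit.app
      ((constantSheaf X.smallEtaleTopology AddCommGrpCat.{u + 1}).obj M)) := by
  refine isIso_unit_const_of_irreducible M _ (fun T hT => ?_) (exists_irreducible_nbhd hN)
  let g := X.fromSpecStalk (genericPoint X)
  obtain ⟨v, hv, huniq⟩ := existsUnique_generic hN T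
  have hrange : ∀ w, g.base w = genericPoint X := fun w => by
    have h : g.base w ⤳ genericPoint X := by
      have h' : g.base w ∈ Set.range g.base := ⟨w, rfl⟩
      rwa [Scheme.range_fromSpecStalk] at h'
    exact (h.antisymm (genericPoint_specializes _)).eq
  obtain ⟨z, -, -⟩ := Scheme.Pullback.exists_preimage_pullback (f := T.hom) (g := g) v
    (IsLocalRing.closedPoint (X.presheaf.stalk (genericPoint X))) (hv.trans (hrange _).symm)
  let p := pullback.fst T.hom g
  show IrreducibleSpace ↥(pullback T.hom g)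
  have huv : ∀ a, p.base a = v := fun a => huniq _ (by
    show (p ≫ T.hom).base a = _
    rw [show p ≫ T.hom = pullback.snd T.hom g ≫ g from pullback.condition]
    exact hrange _)
  haveI : IsPreimmersion p := MorphismProperty.pullback_fst (P := @IsPreimmersion) T.hom g
    (inferInstanceAs (IsPreimmersion (X.fromSpecStalk (genericPoint X))))
  haveI : Subsingleton ↥(pullback T.hom g) :=
    ⟨fun a b => p.isEmbedding.injective ((huv a).trans (huv b).symm)⟩
  exact { isPreirreducible_univ := Set.Subsingleton.isPreirreducible (Set.subsingleton_of_subsingleton)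
          toNonempty := ⟨z⟩ }

end Groth.Agent.EtCore73
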