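import Groth.Agent.S0089
import Groth.Agent.EtFound.LiftEtale
import Groth.Agent.Hensel.LiftEtaleAlg
import Mathlib.AlgebraicGeometry.Morphisms.ClosedImmersion

/-!
# Étale schemes over closed subschemes of normal schemes with separably closed function field
-/

set_option autoImplicit false
set_option backward.isDefEq.respectTransparency false
set_option backward.isDefEq.respectTransparency.types false

universe u

open CategoryTheory CategoryTheory.Limits AlgebraicGeometry

namespace Groth.Agent.EtCore73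

/-- An affine étale scheme over a closed subscheme of `X` (normal, separably closed function field) is a finite
disjoint union of opens of the closed subscheme. -/
theorem exists_split_affine {V Z X : Scheme.{u}} [IsAffine X] [IsIntegral X]
    (hN : ∀ x : X, IsIntegrallyClosed (X.presheaf.stalk x)) [IsSepClosed X.functionField]
    (i : Z ⟶ X) [IsClosedImmersion i] (φ : V ⟶ Z) [AlgebraicGeometry.Etale φ] [IsAffine V] :
    ∃ (ι : Type u) (_ : Finite ι) (W : ι → Z.Opens) (e : (∐ fun k => (W k : Scheme.{u})) ≅ V),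
      ∀ k, Sigma.ι (fun k => (W k : Scheme.{u})) k ≫ e.hom ≫ φ = (W k).ι := by
  have : IsAffine Z := isAffine_of_isAffineHom i
  let A : CommRingCat.{u} := Γ(X, ⊤)
  let eA : X ≅ Spec A := X.isoSpec
  let T : CommRingCat.{u} := Γ(Z, ⊤)
  let eT : Z ≅ Spec T := Z.isoSpec
  obtain ⟨C, ⟨eC⟩⟩ : ∃ A : CommRingCat.{u}, Nonempty (V ≅ Spec A) := ⟨Γ(V, ⊤), ⟨V.isoSpec⟩⟩
  let π : A ⟶ T := i.appTop
  have hπ : Spec.map π = eT.inv ≫ i ≫ eA.hom := by
    rw [Iso.eq_inv_comp]
    exact (Scheme.isoSpec_hom_naturality i)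
  obtain ⟨χ, hχ⟩ := Spec.map_surjective (eC.inv ≫ φ ≫ eT.hom)
  have hsurj : Function.Surjective π.hom := (IsClosedImmersion.isAffine_surjective_of_isAffine i).2
  have het : AlgebraicGeometry.Etale (Spec.map χ) := by rw [hχ]; infer_instance
  algebraize [π.hom, χ.hom]
  have : Algebra.Etale T C :=
    RingHom.etale_algebraMap.1 ((HasRingHomProperty.Spec_iff (P := @AlgebraicGeometry.Etale)).mp het)
  obtain ⟨E, _, _, hE, ⟨eE⟩⟩ := Hensel.exists_etale_algebra_lift (A := A) (T := T) (C := C) hsurj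
  let g : Spec (CommRingCat.of E) ⟶ X := Spec.map (CommRingCat.ofHom (algebraMap A E)) ≫ eA.inv
  have : AlgebraicGeometry.Etale (Spec.map (CommRingCat.ofHom (algebraMap A E))) :=
    (HasRingHomProperty.Spec_iff (P := @AlgebraicGeometry.Etale)).mpr (RingHom.etale_algebraMap.2 hE)
  have : AlgebraicGeometry.Etale g := inferInstance
  let m : E →+* C := (eE.toRingEquiv.toRingHom).comp
    (Algebra.TensorProduct.includeRight (R := A) (A := T) (B := E)).toRingHom
  let r : V ⟶ Spec (CommRingCat.of E) := eC.hom ≫ Spec.map (CommRingCat.ofHom m)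
  let ε : Spec C ≅ Spec (CommRingCat.of (TensorProduct A T E)) :=
    Scheme.Spec.mapIso (eE.toRingEquiv.toCommRingCatIso).op
  have sq0 : IsPullback (Spec.map χ) (Spec.map (CommRingCat.ofHom m))
      (Spec.map π) (Spec.map (CommRingCat.ofHom (algebraMap A E))) := by
    refine (IsPullback.of_hasPullback (Spec.map π) (Spec.map (CommRingCat.ofHom (algebraMap A E)))).of_iso
      ((pullbackSpecIso A T E) ≪≫ ε.symm) (Iso.refl _) (Iso.refl _) (Iso.refl _) ?_ ?_ (by simp) (by simp)
    · have e1 : ε.hom ≫ Spec.map (CommRingCat.ofHom (algebraMap T (TensorProduct A T E))) = Spec.map χ := by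
        change Spec.map _ ≫ Spec.map _ = _
        rw [← Spec.map_comp]
        refine congrArg Spec.map ?_
        ext t
        exact eE.commutes t
      rw [← e1]
      change _ ≫ 𝟙 _ = ((pullbackSpecIso A T E).hom ≫ ε.inv) ≫ ε.hom ≫ _
      rw [Category.comp_id, Category.assoc, Iso.inv_hom_id_assoc]
      exact (pullbackSpecIso_hom_fst' _ _ _).symm
    · have e2 : ε.hom ≫ Spec.map (CommRingCat.ofHom
          (Algebra.TensorProduct.includeRight (R := A) (A := T) (B := E)).toRingHom) =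
          Spec.map (CommRingCat.ofHom m) := by
        change Spec.map _ ≫ Spec.map _ = _
        rw [← Spec.map_comp]
        rfl
      rw [← e2]
      change _ ≫ 𝟙 _ = ((pullbackSpecIso A T E).hom ≫ ε.inv) ≫ ε.hom ≫ _
      rw [Category.comp_id, Category.assoc, Iso.inv_hom_id_assoc]
      exact (pullbackSpecIso_hom_snd _ _ _).symm
  have sq : IsPullback φ r i g := by
    refine sq0.of_iso eC.symm eT.symm (Iso.refl _) eA.symm ?_ ?_ ?_ ?_
    · simp [hχ]
    · simp [r]
    · simp [hπ]
    · simp [g]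
  obtain ⟨ι, W, e, he⟩ := Groth.Agent.S0089.result hN g
  let j : ∀ k, (W k : Scheme.{u}) ⟶ Spec (CommRingCat.of E) := fun k => Sigma.ι (fun k => (W k : Scheme.{u})) k ≫ e.hom
  have hj : ∀ k, j k ≫ g = (W k).ι := fun k => (Category.assoc _ _ _).trans (he k)
  have hjcov : ∀ x, ∃ k w, (j k).base w = x := fun x => by
    obtain ⟨k, w, hw⟩ := (sigmaOpenCover fun k => (W k : Scheme.{u})).exists_eq (e.inv.base x)
    refine ⟨k, w, ?_⟩
    show (Sigma.ι (fun k => (W k : Scheme.{u})) k ≫ e.hom).base w = x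
    rw [Scheme.Hom.comp_apply]
    refine (congrArg e.hom.base hw).trans ?_
    rw [← Scheme.Hom.comp_apply, e.inv_hom_id]
    rfl
  obtain ⟨t, ht⟩ := (isCompact_univ (X := Spec (CommRingCat.of E))).elim_finite_subcover
    (fun k => Set.range (j k).base) (fun k => (j k).isOpenEmbedding.isOpen_range)
    (fun x _ => by
      obtain ⟨k, w, hw⟩ := hjcov x
      exact Set.mem_iUnion.2 ⟨k, w, hw⟩)
  let W' : {k // k ∈ t} → Z.Opens := fun k => i ⁻¹ᵁ W k.1
  let α : ∀ k, (W' k : Scheme.{u}) ⟶ V := fun k => sq.lift (W' k).ι ((i ∣_ W k.1) ≫ j k.1) (by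
    rw [Category.assoc, hj, morphismRestrict_ι])
  have hαφ : ∀ k, α k ≫ φ = (W' k).ι := fun k => sq.lift_fst _ _ _
  have hαr : ∀ k, α k ≫ r = (i ∣_ W k.1) ≫ j k.1 := fun k => sq.lift_snd _ _ _
  have : ∀ k, IsOpenImmersion (α k) := fun k => by
    have : AlgebraicGeometry.Etale (α k ≫ φ) := by rw [hαφ]; infer_instance
    have : AlgebraicGeometry.Etale (α k) := MorphismProperty.of_postcomp (W := @AlgebraicGeometry.Etale)
      (W' := @AlgebraicGeometry.Etale) (α k) φ ‹_› this
    have : Mono (α k ≫ φ) := by rw [hαφ]; infer_instance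
    have : Mono (α k) := mono_of_mono (α k) φ
    exact IsOpenImmersion.of_flat_of_mono (α k)
  have hdisj : Pairwise fun k k' => Disjoint (Set.range (α k).base) (Set.range (α k').base) := by
    intro k k' hne
    rw [Set.disjoint_left]
    rintro _ ⟨a, rfl⟩ ⟨b, hb⟩
    have h1 : (j k'.1).base ((i ∣_ W k'.1).base b) = (j k.1).base ((i ∣_ W k.1).base a) := by
      rw [← Scheme.Hom.comp_apply, ← Scheme.Hom.comp_apply, ← hαr, ← hαr]
      exact (Scheme.Hom.comp_apply _ _ _).trans ((congrArg r.base hb).trans (Scheme.Hom.comp_apply _ _ _).symm)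
    have h2 := e.hom.homeomorph.injective (a₁ := (Sigma.ι (fun k => (W k : Scheme.{u})) k'.1).base ((i ∣_ W k'.1).base b))
      (a₂ := (Sigma.ι (fun k => (W k : Scheme.{u})) k.1).base ((i ∣_ W k.1).base a)) (by
        simpa [j, Scheme.Hom.comp_apply] using h1)
    exact (disjoint_opensRange_sigmaι (fun k => (W k : Scheme.{u})) k.1 k'.1 (fun h => hne (Subtype.ext h))).le_bot
      ⟨⟨_, rfl⟩, ⟨_, h2⟩⟩
  have : IsOpenImmersion (Sigma.desc α) := isOpenImmersion_sigmaDesc _ α hdisj
  have : Surjective (Sigma.desc α) := ⟨fun v => by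
    obtain ⟨k, hk⟩ := Set.mem_iUnion.1 (ht (Set.mem_univ (r.base v)))
    obtain ⟨hkt, w, hw⟩ := Set.mem_iUnion.1 hk
    have hv : φ.base v ∈ W' ⟨k, hkt⟩ := by
      show i.base (φ.base v) ∈ W k
      rw [← Scheme.Hom.comp_apply, sq.w, Scheme.Hom.comp_apply, ← hw, ← Scheme.Hom.comp_apply, hj]
      exact w.2
    let a : ↥(W' ⟨k, hkt⟩) := ⟨φ.base v, hv⟩
    refine ⟨(Sigma.ι (fun k => (W' k : Scheme.{u})) ⟨k, hkt⟩).base a, ?_⟩
    rw [← Scheme.Hom.comp_apply, Sigma.ι_desc]
    have : IsClosedImmersion r := MorphismProperty.of_isPullback sq ‹IsClosedImmersion i›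
    refine r.isClosedEmbedding.injective ?_
    have hka : (j k).base ((i ∣_ W k).base a) = (j k).base w := by
      refine congrArg _ (Subtype.ext ?_)
      show (W k).ι.base ((i ∣_ W k).base a) = w.1
      rw [← Scheme.Hom.comp_apply, morphismRestrict_ι, Scheme.Hom.comp_apply]
      show i.base (φ.base v) = w.1
      rw [← Scheme.Hom.comp_apply, sq.w, Scheme.Hom.comp_apply, ← hw, ← Scheme.Hom.comp_apply, hj]
      rfl
    rw [← Scheme.Hom.comp_apply, hαr, Scheme.Hom.comp_apply, hka, hw]⟩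
  have : IsIso (Sigma.desc α) := (isIso_iff_isOpenImmersion_and_surjective _).2 ⟨inferInstance, inferInstance⟩
  refine ⟨{k // k ∈ t}, inferInstance, W', asIso (Sigma.desc α), fun k => ?_⟩
  rw [asIso_hom, Sigma.ι_desc_assoc]
  exact hαφ k

end Groth.Agent.EtCore73
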