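import Groth.Agent.EtMVLib.MV
import Groth.Agent.PBC50.AicVanish
import Groth.Agent.BigSiteLib.OpenSection

/-!
# Gabber's criterion for the vanishing of étale cohomology on rings with strictly henselian local rings

Cohomology on an open `U` is computed as `Ext(j_! ℤ, F)` on the whole scheme.
-/

set_option autoImplicit false
set_option backward.isDefEq.respectTransparency false
set_option backward.isDefEq.respectTransparency.types false

universe u

open CategoryTheory CategoryTheory.Limits AlgebraicGeometry Opposite TopologicalSpace CategoryTheory.Abelian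

namespace Groth.Agent.EtCore73

open Groth.Agent.EtMVLib

variable {X : Scheme.{u}}

/-- `j_! ℤ` of an open -/
noncomputable abbrev zOpen (U : X.Opens) : EtCoh.Ab X := shriekZ U.ι

theorem mono_shriekZTo (U : X.Opens) : Mono (shriekZTo U.ι) := by
  refine (EtFound.mono_iff_stalks _).2 fun Ω _ _ ξ => ?_
  by_cases h : ξ.base (default : Spec (CommRingCat.of Ω)) ∈ U
  · haveI := isIso_stalk_shriekZTo U ξ h
    exact (AddCommGrpCat.mono_iff_injective _).1 inferInstance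
  · haveI : Mono ((EtCoh.stalk ξ).map (shriekZTo U.ι)) :=
      ⟨fun _ _ _ => (isZero_stalk_shriekZ U ξ h).eq_of_tgt _ _⟩
    exact (AddCommGrpCat.mono_iff_injective _).1 inferInstance

/-- restriction -/
noncomputable abbrev zMap {V U : X.Opens} (h : V ≤ U) : zOpen V ⟶ zOpen U :=
  shriekZMap U.ι V.ι (X.homOfLE h) (X.homOfLE_ι h)

theorem zMap_to {V U : X.Opens} (h : V ≤ U) : zMap h ≫ shriekZTo U.ι = shriekZTo V.ι :=
  shriekZMap_comp _ _ _ _

theorem zMap_comp {W V U : X.Opens} (h : W ≤ V) (h' : V ≤ U) : zMap h ≫ zMap h' = zMap (h.trans h') := by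
  haveI := mono_shriekZTo U
  rw [← cancel_mono (shriekZTo U.ι), Category.assoc, zMap_to, zMap_to, zMap_to]

theorem isIso_stalk_zMap {V U : X.Opens} (h : V ≤ U) {Ω : Type u} [Field Ω] [IsSepClosed Ω]
    (ξ : Spec (CommRingCat.of Ω) ⟶ X) (hξ : ξ.base (default : Spec (CommRingCat.of Ω)) ∈ V) :
    IsIso ((EtCoh.stalk ξ).map (zMap h)) := by
  haveI := isIso_stalk_shriekZTo U ξ (h hξ)
  haveI : IsIso ((EtCoh.stalk ξ).map (zMap h) ≫ (EtCoh.stalk ξ).map (shriekZTo U.ι)) := by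
    rw [← Functor.map_comp, zMap_to]
    exact isIso_stalk_shriekZTo V ξ hξ
  exact IsIso.of_isIso_comp_right _ ((EtCoh.stalk ξ).map (shriekZTo U.ι))

theorem isZero_zOpen_bot {U : X.Opens} (hU : U = ⊥) : IsZero (zOpen U) := by
  haveI : Mono (0 : zOpen U ⟶ zOpen U) := (EtFound.mono_iff_stalks _).2 fun Ω _ _ ξ => by
    haveI : Mono ((EtCoh.stalk ξ).map (0 : zOpen U ⟶ zOpen U)) :=
      ⟨fun _ _ _ => (isZero_stalk_shriekZ U ξ (by rw [hU]; exact id)).eq_of_tgt _ _⟩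
    exact (AddCommGrpCat.mono_iff_injective _).1 inferInstance
  exact IsZero.of_mono_zero (zOpen U) (zOpen U)

theorem relative_shortExact {V₁ V₂ U : X.Opens} (h₁ : V₁ ≤ U) (h₂ : V₂ ≤ U) (hcov : U ≤ V₁ ⊔ V₂) :
    (mvSC (zMap (inf_le_left : V₁ ⊓ V₂ ≤ V₁)) (zMap (inf_le_right : V₁ ⊓ V₂ ≤ V₂)) (zMap h₁) (zMap h₂)
      (r := zMap ((inf_le_left : V₁ ⊓ V₂ ≤ V₁).trans h₁)) (zMap_comp _ h₁) (zMap_comp _ h₂)).ShortExact := by
  set S := mvSC (zMap (inf_le_left : V₁ ⊓ V₂ ≤ V₁)) (zMap (inf_le_right : V₁ ⊓ V₂ ≤ V₂)) (zMap h₁) (zMap h₂)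
      (r := zMap ((inf_le_left : V₁ ⊓ V₂ ≤ V₁).trans h₁)) (zMap_comp _ h₁) (zMap_comp _ h₂)
  suffices key : ∀ (Ω : Type u) [Field Ω] [IsSepClosed Ω] (ξ : Spec (CommRingCat.of Ω) ⟶ X),
      (S.map (EtCoh.stalk ξ)).ShortExact by
    refine ShortComplex.ShortExact.mk' ((EtFound.exact_iff_stalks _).2 fun Ω _ _ ξ => (key Ω ξ).exact)
      ((EtFound.mono_iff_stalks _).2 fun Ω _ _ ξ => ?_) ((EtFound.epi_iff_stalks _).2 fun Ω _ _ ξ => ?_)
    · exact (AddCommGrpCat.mono_iff_injective _).1 (key Ω ξ).mono_f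
    · exact (AddCommGrpCat.epi_iff_surjective _).1 (key Ω ξ).epi_g
  intro Ω _ _ ξ
  haveI : (EtCoh.stalk ξ).Additive := Functor.additive_of_preserves_binary_products _
  by_cases h : ξ.base (default : Spec (CommRingCat.of Ω)) ∈ U
  swap
  · have hZ : ∀ {V : X.Opens}, V ≤ U → IsZero ((EtCoh.stalk ξ).obj (zOpen V)) := fun hV =>
      isZero_stalk_shriekZ _ ξ fun h' => h (hV h')
    refine shortExact_map_of_isZero (EtCoh.stalk ξ) _ _ _ _ _ _ (hZ (inf_le_left.trans h₁))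
      (Or.inl ⟨⟨0, (hZ h₁).eq_of_src _ _, (hZ le_rfl).eq_of_src _ _⟩, hZ h₂⟩)
  by_cases h1 : ξ.base (default : Spec (CommRingCat.of Ω)) ∈ V₁
  · by_cases h2 : ξ.base (default : Spec (CommRingCat.of Ω)) ∈ V₂
    · haveI := isIso_stalk_zMap h₁ ξ h1
      haveI := isIso_stalk_zMap h₂ ξ h2
      haveI := isIso_stalk_zMap ((inf_le_left : V₁ ⊓ V₂ ≤ V₁).trans h₁) ξ ⟨h1, h2⟩
      exact shortExact_map_of_isIso (EtCoh.stalk ξ) _ _ _ _ _ _
    · exact shortExact_map_of_isZero (EtCoh.stalk ξ) _ _ _ _ _ _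
        (isZero_stalk_shriekZ (V₁ ⊓ V₂) ξ fun h => h2 h.2)
        (Or.inl ⟨isIso_stalk_zMap h₁ ξ h1, isZero_stalk_shriekZ V₂ ξ h2⟩)
  · have h2 : ξ.base (default : Spec (CommRingCat.of Ω)) ∈ V₂ :=
      (TopologicalSpace.Opens.mem_sup.1 (hcov h)).resolve_left h1
    exact shortExact_map_of_isZero (EtCoh.stalk ξ) _ _ _ _ _ _
      (isZero_stalk_shriekZ (V₁ ⊓ V₂) ξ fun h => h1 h.1)
      (Or.inr ⟨isIso_stalk_zMap h₂ ξ h2, isZero_stalk_shriekZ V₁ ξ h1⟩)

theorem ulift_int_hom_ext {A : AddCommGrpCat.{u + 1}}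
    {a b : AddCommGrpCat.of (ULift.{u + 1} ℤ) ⟶ A} (h : a ⟨1⟩ = b ⟨1⟩) : a = b :=
  (AddCommGrpCat.uliftZMultiplesAddEquiv _).injective h

/-- lifts over an etale scheme give lifts of pullbacks along maps factoring through it -/
theorem exists_pullSec_lift {W U : Scheme.{u}} (k : W ⟶ U) {A B : EtCoh.Ab U} (g : A ⟶ B)
    (σ : B.obj.obj (op (EtCoh.top U))) {V : U.Etale} (kV : V ⟶ EtCoh.top U) (t : A.obj.obj (op V))
    (ht : g.hom.app (op V) t = B.obj.map kV.op σ) (m : EtCoh.top W ⟶ (EtCoh.bc k).obj V) :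
    ∃ τ : ((EtCoh.pull k).obj A).obj.obj (op (EtCoh.top W)),
      ((EtCoh.pull k).map g).hom.app (op (EtCoh.top W)) τ = (pullSec k).app B σ := by
  let e := (EtCoh.pullPushAdj k).unit
  let t' : ((EtCoh.pull k).obj A).obj.obj (op ((EtCoh.bc k).obj V)) := (e.app A).hom.app (op V) t
  refine ⟨((EtCoh.pull k).obj A).obj.map m.op t', ?_⟩
  rw [NatTrans.naturality_apply ((EtCoh.pull k).map g).hom m.op]
  have h1 : ((EtCoh.pull k).map g).hom.app (op ((EtCoh.bc k).obj V)) t' =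
      (e.app B).hom.app (op V) (g.hom.app (op V) t) :=
    (congrArg (fun q : A ⟶ (EtCoh.push k).obj ((EtCoh.pull k).obj B) => q.hom.app (op V) t) (e.naturality g)).symm
  have h2 : (e.app B).hom.app (op V) (B.obj.map kV.op σ) =
      ((EtCoh.pull k).obj B).obj.map ((EtCoh.bc k).map kV).op ((e.app B).hom.app (op (EtCoh.top U)) σ) :=
    NatTrans.naturality_apply (e.app B).hom kV.op σ
  rw [h1, ht, h2]
  show _ = (EtCore.pushGsecIso k).hom.app ((EtCoh.pull k).obj B) ((e.app B).hom.app (op (EtCoh.top U)) σ)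
  generalize (e.app B).hom.app (op (EtCoh.top U)) σ = x
  show ((EtCoh.pull k).obj B).obj.map m.op (((EtCoh.pull k).obj B).obj.map ((EtCoh.bc k).map kV).op x) =
      ((EtCoh.pull k).obj B).obj.map (Quiver.Hom.op _) x
  rw [← ConcreteCategory.comp_apply, ← Functor.map_comp, ← op_comp]
  exact congrArg (fun q => ((EtCoh.pull k).obj B).obj.map (Quiver.Hom.op q) x)
    ((EtCore.bcTopIsTerminal k).hom_ext _ _)

/-- morphisms out of the constant sheaf lift after pullback -/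
theorem exists_const_lift {W U : Scheme.{u}} (k : W ⟶ U) {A B : EtCoh.Ab U} (g : A ⟶ B)
    (φ : EtCoh.const U ℤ ⟶ B) {V : U.Etale} (kV : V ⟶ EtCoh.top U) (t : A.obj.obj (op V))
    (ht : g.hom.app (op V) t = B.obj.map kV.op (((EtCore.constAdj U).homEquiv _ _ φ) ⟨1⟩))
    (m : EtCoh.top W ⟶ (EtCoh.bc k).obj V) :
    ∃ c : EtCoh.const W ℤ ⟶ (EtCoh.pull k).obj A,
      c ≫ (EtCoh.pull k).map g = (EtCore.pullConst k ℤ).inv ≫ (EtCoh.pull k).map φ := by
  obtain ⟨τ, hτ⟩ := exists_pullSec_lift k g _ kV t ht m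
  refine ⟨((EtCore.constAdj W).homEquiv _ _).symm ((AddCommGrpCat.uliftZMultiplesAddEquiv _).symm τ), ?_⟩
  apply ((EtCore.constAdj W).homEquiv _ _).injective
  rw [Adjunction.homEquiv_naturality_right, Adjunction.homEquiv_naturality_right, homEquiv_pullConst_inv,
    Equiv.apply_symm_apply]
  refine ulift_int_hom_ext ?_
  have hσ : (EtCore.gsec U).map φ ((EtCore.constAdj U).unit.app _ (⟨1⟩ : ULift.{u + 1} ℤ)) =
      ((EtCore.constAdj U).homEquiv _ _ φ) ⟨1⟩ :=
    (congrArg (fun q : AddCommGrpCat.of (ULift.{u + 1} ℤ) ⟶ _ => q ⟨1⟩)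
      ((EtCore.constAdj U).homEquiv_unit _ _ φ)).symm
  have hn : (EtCore.gsec U).map φ ≫ (pullSec k).app B =
      (pullSec k).app (EtCoh.const U ℤ) ≫ (EtCore.gsec W).map ((EtCoh.pull k).map φ) := (pullSec k).naturality φ
  refine Eq.trans ?_ (congrArg (fun q : AddCommGrpCat.of (ULift.{u + 1} ℤ) ⟶ _ => q ⟨1⟩)
    ((congrArg ((EtCore.constAdj U).unit.app _ ≫ ·) hn).trans (Category.assoc _ _ _).symm))
  refine Eq.trans ?_ (congrArg ((pullSec k).app B) hσ).symm
  refine Eq.trans ?_ hτ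
  exact congrArg ((EtCore.gsec W).map ((EtCoh.pull k).map g))
    ((AddCommGrpCat.uliftZMultiplesAddEquiv _).apply_symm_apply τ)

section Abstract

variable {A B C : Type*} [Category* A] [Category* B] [Category* C] [Abelian A] [Abelian B] [Abelian C]
  {cB : B} {cC : C} (R : A ⥤ B) {L : B ⥤ A} (adj : L ⊣ R) (R' : A ⥤ C) (K : B ⥤ C) (cK : cC ⟶ K.obj cB)
  (θ : R ⋙ K ≅ R') {L' : C ⥤ A} (adj' : L' ⊣ R')

/-- lifting through transition maps -/
theorem exists_transMap_lift {P Q : A} (g : P ⟶ Q) (φ : L.obj cB ⟶ Q) (c : cC ⟶ K.obj (R.obj P))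
    (hc : c ≫ K.map (R.map g) = cK ≫ K.map (adj.homEquiv _ _ φ)) :
    ∃ ψ : L'.obj cC ⟶ P, ψ ≫ g = transMap R adj R' K cK θ adj' ≫ φ := by
  refine ⟨(adj'.homEquiv _ _).symm (c ≫ θ.hom.app P), ?_⟩
  rw [transMap, ← Adjunction.homEquiv_naturality_right_symm, ← Adjunction.homEquiv_naturality_right_symm]
  refine congrArg (adj'.homEquiv _ _).symm ?_
  rw [Category.assoc, Category.assoc, Category.assoc, ← θ.hom.naturality, ← θ.hom.naturality, Functor.comp_map,
    Functor.comp_map, reassoc_of% hc, Adjunction.homEquiv_unit, Functor.map_comp]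
  simp only [Category.assoc]

end Abstract

/-- morphisms out of `j_! ℤ` lift locally along epimorphisms -/
theorem exists_lift_near (hX : ∀ x : X, EtCoh.IsStrictlyHenselianLocalRing (X.presheaf.stalk x))
    {A B : EtCoh.Ab X} (g : A ⟶ B) [Epi g] {U : X.Opens} (φ : zOpen U ⟶ B) {z : X} (hz : z ∈ U) :
    ∃ (W : X.Opens) (h : W ≤ U), z ∈ W ∧ ∃ ψ : zOpen W ⟶ A, ψ ≫ g = zMap h ≫ φ := by
  have hepi : Epi ((EtCoh.pull U.ι).map g) := by
    haveI : (EtCoh.pull U.ι).PreservesEpimorphisms :=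
      (EtCoh.pull U.ι).preservesEpimorphisms_of_adjunction (EtCoh.pullPushAdj U.ι)
    infer_instance
  obtain ⟨V, kV, t, ⟨v, hv⟩, ht⟩ := PBC50.AicVanish.exists_local_lift ((EtCoh.pull U.ι).map g)
    (((EtCore.constAdj U).homEquiv _ _ ((shriekAdj U.ι).homEquiv _ _ φ)) ⟨1⟩) (⟨z, hz⟩ : U.toScheme)
  haveI : AlgebraicGeometry.Etale (V.hom : V.left ⟶ U.toScheme) := V.prop
  obtain ⟨W, s, hvW, hs, -⟩ := BigSiteLib.exists_open_section_mem hX (V.hom ≫ U.ι) v
  have hvz : (V.hom : V.left ⟶ U.toScheme).base v = ⟨z, hz⟩ :=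
    (EtFound.apply_hom kV v).symm.trans ((congrArg (EtCoh.top U.toScheme).hom.base hv).trans rfl)
  have hzW : z ∈ W := by
    have : (V.hom ≫ U.ι).base v = z := by rw [Scheme.Hom.comp_apply, hvz]; rfl
    rwa [← this]
  have hWU : W ≤ U := fun w hw => by
    have : ((s ≫ V.hom) ≫ U.ι).base ⟨w, hw⟩ = w := by rw [Category.assoc, hs]; rfl
    rw [← this, Scheme.Hom.comp_apply]
    exact ((s ≫ V.hom).base ⟨w, hw⟩).2
  have hk : s ≫ V.hom = X.homOfLE hWU := by
    rw [← cancel_mono U.ι, Category.assoc, hs, Scheme.homOfLE_ι]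
  obtain ⟨c, hc⟩ := exists_const_lift (X.homOfLE hWU) _ _ kV t ht
    (MorphismProperty.Over.homMk (pullback.lift s (𝟙 _) (by rw [hk, Category.id_comp])) (pullback.lift_snd _ _ _))
  obtain ⟨ψ, hψ⟩ := exists_transMap_lift (EtCoh.pull U.ι) (shriekAdj U.ι) (EtCoh.pull W.ι)
    (EtCoh.pull (X.homOfLE hWU)) (EtCore.pullConst (X.homOfLE hWU) ℤ).inv
    (θ U.ι W.ι (X.homOfLE hWU) (X.homOfLE_ι hWU)) (shriekAdj W.ι) g φ c hc
  refine ⟨W, hWU, hzW, ψ, ?_⟩
  unfold zMap shriekZMap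
  exact hψ

/-- cohomology classes vanish locally -/
theorem exists_zero_near (hX : ∀ x : X, EtCoh.IsStrictlyHenselianLocalRing (X.presheaf.stalk x)) {U : X.Opens}
    {z : X} (hz : z ∈ U) : ∀ (n : ℕ) (F : EtCoh.Ab X) (α : Ext (zOpen U) F (n + 1)),
      ∃ (W : X.Opens) (h : W ≤ U), z ∈ W ∧ (Ext.mk₀ (zMap h)).comp α (zero_add _) = 0 := by
  intro n
  induction n with
  | zero =>
    intro F α
    obtain ⟨β, rfl⟩ := exists_eq_comp_extClass α
    obtain ⟨φ, rfl⟩ := (Ext.mk₀_bijective _ _).2 β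
    haveI : Epi (injSES F).g := (injSES_shortExact F).epi_g
    obtain ⟨W, h, hzW, ψ, hψ⟩ := exists_lift_near hX (injSES F).g φ hz
    refine ⟨W, h, hzW, ?_⟩
    rw [← Ext.comp_assoc_of_second_deg_zero, Ext.mk₀_comp_mk₀, ← hψ, ← Ext.mk₀_comp_mk₀,
      Ext.comp_assoc_of_second_deg_zero, (injSES_shortExact F).comp_extClass, Ext.comp_zero]
  | succ n ih =>
    intro F α
    obtain ⟨β, rfl⟩ := exists_eq_comp_extClass α
    obtain ⟨W, h, hzW, h0⟩ := ih _ β
    refine ⟨W, h, hzW, ?_⟩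
    rw [← Ext.comp_assoc _ _ _ (zero_add (n + 1)) rfl (by lia), h0, Ext.zero_comp]

theorem HpullVia_adjExtMap {V U : X.Opens} (h : V ≤ U) [PreservesFiniteLimits (EtCoh.pull (X.homOfLE h))]
    [PreservesFiniteLimits (EtCoh.pull U.ι)] [PreservesFiniteLimits (EtCoh.pull V.ι)] (F : EtCoh.Ab X) (n : ℕ)
    (α : Ext (zOpen U) F n) :
    EtCore.HpullVia (X.homOfLE h) U.ι V.ι (X.homOfLE_ι h) F n (adjExtMap (shriekAdj U.ι) _ F n α) =
      adjExtMap (shriekAdj V.ι) _ F n ((Ext.mk₀ (zMap h)).comp α (zero_add n)) :=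
  (HpullVia_apply' U.ι V.ι (X.homOfLE h) (X.homOfLE_ι h) F n _).trans
    (via_eq (EtCoh.pull U.ι) (shriekAdj U.ι) (EtCoh.pull V.ι) (EtCoh.pull (X.homOfLE h))
      (EtCore.pullConst (X.homOfLE h) ℤ).inv (θ U.ι V.ι (X.homOfLE h) (X.homOfLE_ι h)) (shriekAdj V.ι) F n α)

theorem subsingleton_H_of_zOpen {U : X.Opens} (hU : U = ⊤) {F : EtCoh.Ab X} {n : ℕ}
    (h : ∀ α : Ext (zOpen U) F n, α = 0) : Subsingleton (EtCoh.H X F n) := by
  haveI : IsIso (shriekZTo U.ι) := (EtFound.isIso_iff_stalks _).2 fun Ω _ _ ξ => by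
    haveI := isIso_stalk_shriekZTo U ξ (by rw [hU]; trivial)
    exact isIso_stalk_shriekZTo U ξ (by rw [hU]; trivial)
  refine subsingleton_of_forall_eq 0 fun x => ?_
  let x' : Ext (EtCoh.const X ℤ) F n := x
  have h1 := congrArg (fun q => (Ext.mk₀ (inv (shriekZTo U.ι))).comp q (zero_add n))
    (h ((Ext.mk₀ (shriekZTo U.ι)).comp x' (zero_add n)))
  rw [Ext.mk₀_comp_mk₀_assoc, IsIso.inv_hom_id, Ext.mk₀_id_comp, Ext.comp_zero] at h1
  exact h1

variable [IsAffine X]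

/-- the criterion: classes on basic opens vanish once they are detected on two-piece covers in degree one -/
theorem eq_zero_of_criterion (hX : ∀ x : X, EtCoh.IsStrictlyHenselianLocalRing (X.presheaf.stalk x))
    (F : EtCoh.Ab X)
    (hker : ∀ (f g : Γ(X, ⊤)) (α : Ext (zOpen (X.basicOpen (f + g))) F 1),
      (Ext.mk₀ (zMap ((X.basicOpen_mul f (f + g)).trans_le inf_le_right))).comp α (zero_add 1) = 0 →
      (Ext.mk₀ (zMap ((X.basicOpen_mul g (f + g)).trans_le inf_le_right))).comp α (zero_add 1) = 0 → α = 0) :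
    ∀ (n : ℕ) (a : Γ(X, ⊤)) (α : Ext (zOpen (X.basicOpen a)) F (n + 1)), α = 0 := by
  intro n
  induction n using Nat.strong_induction_on with
  | _ n ih =>
  intro a α
  let kill : ∀ {V : X.Opens}, V ≤ X.basicOpen a → Prop := fun h => (Ext.mk₀ (zMap h)).comp α (zero_add _) = 0
  have hmono : ∀ {W V : X.Opens} (h : W ≤ V) (h' : V ≤ X.basicOpen a), kill h' → kill (h.trans h') :=
    fun h h' hk => by
      show (Ext.mk₀ (zMap _)).comp α _ = 0
      rw [← zMap_comp h h', ← Ext.mk₀_comp_mk₀, Ext.comp_assoc_of_second_deg_zero]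
      show (Ext.mk₀ _).comp ((Ext.mk₀ (zMap h')).comp α _) _ = 0
      rw [hk, Ext.comp_zero]
  have hle : ∀ f, X.basicOpen (a * f) ≤ X.basicOpen a := fun f => (X.basicOpen_mul a f).trans_le inf_le_left
  have hadd : ∀ f g, kill (hle f) → kill (hle g) → kill (hle (f + g)) := by
    intro f g hf hg
    have hU : X.basicOpen (a * f + a * g) ≤ X.basicOpen a := by rw [← mul_add]; exact hle _
    suffices kill hU from hmono (by rw [mul_add]) hU this
    let h₁ := (X.basicOpen_mul (a * f) (a * f + a * g)).trans_le inf_le_right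
    let h₂ := (X.basicOpen_mul (a * g) (a * f + a * g)).trans_le inf_le_right
    have e₁ : (Ext.mk₀ (zMap h₁)).comp ((Ext.mk₀ (zMap hU)).comp α (zero_add _)) (zero_add _) = 0 := by
      rw [← Ext.comp_assoc_of_second_deg_zero, Ext.mk₀_comp_mk₀, zMap_comp]
      exact hmono ((X.basicOpen_mul (a * f) (a * f + a * g)).trans_le inf_le_left) (hle f) hf
    have e₂ : (Ext.mk₀ (zMap h₂)).comp ((Ext.mk₀ (zMap hU)).comp α (zero_add _)) (zero_add _) = 0 := by
      rw [← Ext.comp_assoc_of_second_deg_zero, Ext.mk₀_comp_mk₀, zMap_comp]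
      exact hmono ((X.basicOpen_mul (a * g) (a * f + a * g)).trans_le inf_le_left) (hle g) hg
    show (Ext.mk₀ (zMap hU)).comp α (zero_add _) = 0
    generalize (Ext.mk₀ (zMap hU)).comp α (zero_add _) = γ at e₁ e₂ ⊢
    rcases n with _ | m
    · exact hker (a * f) (a * g) γ e₁ e₂
    ·
      have hcov : X.basicOpen (a * f + a * g) ≤
          X.basicOpen (a * f * (a * f + a * g)) ⊔ X.basicOpen (a * g * (a * f + a * g)) := by
        rw [Scheme.basicOpen_mul X (a * f) (a * f + a * g), Scheme.basicOpen_mul X (a * g) (a * f + a * g),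
          ← inf_sup_right]
        exact le_inf (X.basicOpen_add_le (a * f) (a * g)) le_rfl
      have hS := relative_shortExact h₁ h₂ hcov
      obtain ⟨x, hx⟩ := Ext.contravariant_sequence_exact₃ hS F γ (Ext.biprod_ext
        (by
          rw [Ext.comp_zero, Ext.mk₀_comp_mk₀_assoc]
          exact (congrArg (fun q => (Ext.mk₀ q).comp γ (zero_add _)) (biprod.inl_desc _ _)).trans e₁)
        (by
          rw [Ext.comp_zero, Ext.mk₀_comp_mk₀_assoc]
          exact (congrArg (fun q => (Ext.mk₀ q).comp γ (zero_add _)) (biprod.inr_desc _ _)).trans e₂)) (add_comm 1 _)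
      have hx0 : ∀ (O : X.Opens), (∃ c : Γ(X, ⊤), O = X.basicOpen c) → ∀ y : Ext (zOpen O) F (m + 1), y = 0 := by
        rintro _ ⟨c, rfl⟩ y
        exact ih m (Nat.lt_succ_self m) c y
      rw [← hx, hx0 _ ⟨_, (X.basicOpen_mul _ _).symm⟩ x, Ext.comp_zero]
  have hzero : kill (hle 0) := by
    show (Ext.mk₀ (zMap (hle 0))).comp α _ = 0
    rw [(isZero_zOpen_bot (by rw [mul_zero, Scheme.basicOpen_zero])).eq_of_src (zMap (hle 0)) 0, Ext.mk₀_zero,
      Ext.zero_comp]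
  let 𝔞 : Ideal Γ(X, ⊤) :=
    { carrier := {f | kill (hle f)}
      zero_mem' := hzero
      add_mem' := fun {f g} hf hg => hadd f g hf hg
      smul_mem' := fun c f hf => hmono (W := X.basicOpen (a * (c * f))) (by
        simp only [Scheme.basicOpen_mul]
        exact le_inf inf_le_left (inf_le_right.trans inf_le_right)) (hle f) hf }
  have hrad : a ∈ 𝔞.radical := by
    rw [Ideal.radical_eq_sInf, Submodule.mem_sInf]
    rintro p ⟨hle', hp⟩
    by_contra ha
    let z : X := X.isoSpec.inv.base ⟨p, hp⟩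
    have hmem : ∀ r : Γ(X, ⊤), z ∈ X.basicOpen r ↔ r ∉ p := fun r => by
      rw [← Scheme.map_PrimeSpectrum_basicOpen_of_affine]
      show X.isoSpec.hom.base (X.isoSpec.inv.base ⟨p, hp⟩) ∈ PrimeSpectrum.basicOpen r ↔ _
      rw [← Scheme.Hom.comp_apply, X.isoSpec.inv_hom_id]
      rfl
    obtain ⟨W, hW, hzW, h0⟩ := exists_zero_near hX ((hmem a).2 ha) n F α
    obtain ⟨f, hfW, hzf⟩ := (isAffineOpen_top X).exists_basicOpen_le (V := W) ⟨z, hzW⟩ trivial
    exact (hmem f).1 hzf (hle' (hmono (((X.basicOpen_mul a f).trans_le inf_le_right).trans hfW) hW h0))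
  obtain ⟨k, hk⟩ := hrad
  have hle2 : X.basicOpen a ≤ X.basicOpen (a * a ^ k) := by
    rw [Scheme.basicOpen_mul]
    refine le_inf le_rfl ?_
    rcases Nat.eq_zero_or_pos k with rfl | hk'
    · rw [pow_zero, Scheme.basicOpen_of_isUnit _ isUnit_one]; exact le_top
    · exact (Scheme.basicOpen_pow (X := X) (f := a) hk').ge
  have h1 : (Ext.mk₀ (zMap (le_refl (X.basicOpen a)))).comp α (zero_add _) = 0 := hmono hle2 (hle _) hk
  have hid : zMap (le_refl (X.basicOpen a)) = 𝟙 _ := by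
    haveI := mono_shriekZTo (X.basicOpen a)
    rw [← cancel_mono (shriekZTo (X.basicOpen a).ι), zMap_to, Category.id_comp]
  rwa [hid, Ext.mk₀_id_comp] at h1

end Groth.Agent.EtCore73
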