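import Groth.Agent.EtFound.PushOutside
import Groth.Agent.EtFound.ExtZeroConstr
import Mathlib.CategoryTheory.CofilteredSystem
import Mathlib.Topology.Sober

/-! every point of the small etale site is geometric -/

universe u

open CategoryTheory CategoryTheory.Limits AlgebraicGeometry Opposite TopologicalSpace

namespace Groth.Agent.EtCore73.PointsGeometric

open Groth.Agent.EtFound

set_option backward.isDefEq.respectTransparency false
set_option backward.isDefEq.respectTransparency.types false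

variable {S : Scheme.{u}} (p : GrothendieckTopology.Point.{u} S.smallEtaleTopology)

theorem exists_of_cover {V : S.Etale} {ι : Type*} (W : ι → S.Etale) (g : ∀ i, W i ⟶ V)
    (hc : ∀ x : V.left, ∃ (i : ι) (w : (W i).left), (g i).left.base w = x) (v : p.fiber.obj V) :
    ∃ (i : ι) (w : p.fiber.obj (W i)), p.fiber.map (g i) w = v := by
  obtain ⟨Y, f, hf, y, hy⟩ := p.jointly_surjective (Sieve.ofArrows W g) ((mem_topology_iff _).2 fun x => by
    obtain ⟨i, w, hw⟩ := hc x
    exact ⟨W i, g i, w, Sieve.ofArrows_mk _ _ i, hw⟩) v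
  obtain ⟨_, k, _, ⟨i⟩, rfl⟩ := hf
  exact ⟨i, p.fiber.map k y, by rw [← hy, Functor.map_comp]; rfl⟩

/-- two elements come from a common one -/
theorem exists_common {V W : S.Etale} (v : p.fiber.obj V) (w : p.fiber.obj W) :
    ∃ (Z : S.Etale) (z : p.fiber.obj Z) (a : Z ⟶ V) (b : Z ⟶ W), p.fiber.map a z = v ∧ p.fiber.map b z = w :=
  let a := p.fiber.elementsMk V v
  let b := p.fiber.elementsMk W w
  ⟨(IsCofiltered.min a b).1, (IsCofiltered.min a b).2,
    (IsCofiltered.minToLeft a b).1, (IsCofiltered.minToRight a b).1,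
    (IsCofiltered.minToLeft a b).2, (IsCofiltered.minToRight a b).2⟩

/-- common refinement over a common target -/
theorem exists_cospan {V W₁ W₂ : S.Etale} (g₁ : W₁ ⟶ V) (g₂ : W₂ ⟶ V) (w₁ : p.fiber.obj W₁) (w₂ : p.fiber.obj W₂)
    (h : p.fiber.map g₁ w₁ = p.fiber.map g₂ w₂) :
    ∃ (Z : S.Etale) (z : p.fiber.obj Z) (a : Z ⟶ W₁) (b : Z ⟶ W₂),
      p.fiber.map a z = w₁ ∧ p.fiber.map b z = w₂ ∧ a ≫ g₁ = b ≫ g₂ := by
  obtain ⟨K, k₁, k₂, hk⟩ := IsCofiltered.cospan
    (CategoryOfElements.homMk (⟨W₁, w₁⟩ : p.fiber.Elements) ⟨V, p.fiber.map g₁ w₁⟩ g₁ rfl)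
    (CategoryOfElements.homMk (⟨W₂, w₂⟩ : p.fiber.Elements) ⟨V, p.fiber.map g₁ w₁⟩ g₂ h.symm)
  exact ⟨K.1, K.2, k₁.1, k₂.1, k₁.2, k₂.2, congrArg Subtype.val hk⟩

variable {p} {V : S.Etale} (v : p.fiber.obj V)

/-- `v` is in the part over an open -/
def Mem (O : V.left.Opens) : Prop := ∃ w, p.fiber.map (restrictEtaleHom V O) w = v

theorem mem_of_hom {Z : S.Etale} (g : Z ⟶ V) (z : p.fiber.obj Z) (hz : p.fiber.map g z = v) {O : V.left.Opens}
    (hO : Set.range g.left.base ⊆ O) : Mem v O := by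
  have hr : Set.range g.left.base ⊆ Set.range O.ι.base := by rwa [Scheme.Opens.range_ι]
  let k : Z ⟶ restrictEtale V O := MorphismProperty.Over.homMk (IsOpenImmersion.lift O.ι g.left hr) (by
    change IsOpenImmersion.lift O.ι g.left hr ≫ O.ι ≫ V.hom = Z.hom
    rw [IsOpenImmersion.lift_fac_assoc, MorphismProperty.Over.w g])
  have hk : k ≫ restrictEtaleHom V O = g := MorphismProperty.Over.Hom.ext (IsOpenImmersion.lift_fac _ _ _)
  exact ⟨p.fiber.map k z, by rw [← ConcreteCategory.comp_apply, ← Functor.map_comp, hk, hz]⟩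

theorem mem_mono {O O' : V.left.Opens} (h : O ≤ O') (hm : Mem v O) : Mem v O' := by
  obtain ⟨w, hw⟩ := hm
  refine mem_of_hom v _ w hw ?_
  change Set.range O.ι.base ⊆ _
  rw [Scheme.Opens.range_ι]
  exact h

theorem mem_top : Mem v ⊤ := by
  obtain ⟨-, w, hw⟩ := exists_of_cover p (fun _ : PUnit.{1} => restrictEtale V ⊤)
    (fun _ => restrictEtaleHom V ⊤) (fun x => ⟨PUnit.unit, (⟨x, trivial⟩ : ↥(⊤ : V.left.Opens)), rfl⟩) v
  exact ⟨w, hw⟩

theorem mem_inf {O₁ O₂ : V.left.Opens} (h₁ : Mem v O₁) (h₂ : Mem v O₂) : Mem v (O₁ ⊓ O₂) := by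
  obtain ⟨w₁, hw₁⟩ := h₁
  obtain ⟨w₂, hw₂⟩ := h₂
  obtain ⟨Z, z, a, b, ha, hb, hab⟩ :=
    exists_cospan p (restrictEtaleHom V O₁) (restrictEtaleHom V O₂) w₁ w₂ (hw₁.trans hw₂.symm)
  refine mem_of_hom v (a ≫ restrictEtaleHom V O₁) z (by rw [Functor.map_comp, ConcreteCategory.comp_apply, ha, hw₁]) ?_
  rintro _ ⟨q, rfl⟩
  refine ⟨(a.left.base q).2, ?_⟩
  change (a ≫ restrictEtaleHom V O₁).left.base q ∈ O₂
  rw [hab]
  exact (b.left.base q).2

theorem exists_mem_of_mem_sSup {T : Set V.left.Opens} (h : Mem v (sSup T)) : ∃ O ∈ T, Mem v O := by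
  obtain ⟨w, hw⟩ := h
  let g : ∀ O : ↥T, restrictEtale V O.1 ⟶ restrictEtale V (sSup T) := fun O =>
    MorphismProperty.Over.homMk (V.left.homOfLE (le_sSup O.2))
      (show V.left.homOfLE (le_sSup O.2) ≫ (sSup T).ι ≫ V.hom = O.1.ι ≫ V.hom by
        rw [Scheme.homOfLE_ι_assoc])
  obtain ⟨O, w', hw'⟩ := exists_of_cover p (fun O : ↥T => restrictEtale V O.1) g (fun x => by
    obtain ⟨O, hO, hxO⟩ := Opens.mem_sSup.1 (show ((sSup T).ι.base x) ∈ sSup T from x.2)
    refine ⟨⟨O, hO⟩, (⟨_, hxO⟩ : ↥O), ?_⟩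
    exact Subtype.ext ((Scheme.homOfLE_apply (X := V.left) (le_sSup hO) ⟨_, hxO⟩))) w
  refine ⟨O.1, O.2, w', ?_⟩
  rw [show restrictEtaleHom V O.1 = g O ≫ restrictEtaleHom V (sSup T) from
    MorphismProperty.Over.Hom.ext (Scheme.homOfLE_ι (X := V.left) (le_sSup O.2)).symm,
    Functor.map_comp, ConcreteCategory.comp_apply, hw', hw]

/-- the largest open avoiding `v` -/
def away : V.left.Opens := sSup {O | ¬ Mem v O}

theorem not_mem_away : ¬ Mem v (away v) := fun h => by
  obtain ⟨O, hO, hm⟩ := exists_mem_of_mem_sSup v h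
  exact hO hm

theorem mem_iff_not_le (O : V.left.Opens) : Mem v O ↔ ¬ O ≤ away v :=
  ⟨fun h hle => not_mem_away v (mem_mono v hle h), fun h => by_contra fun hm => h (le_sSup hm)⟩

theorem mem_iff_meets (O : V.left.Opens) : Mem v O ↔ ((away v : Set V.left)ᶜ ∩ O).Nonempty := by
  rw [mem_iff_not_le, ← SetLike.coe_subset_coe, Set.not_subset]
  exact ⟨fun ⟨x, hx, hx'⟩ => ⟨x, hx', hx⟩, fun ⟨x, hx', hx⟩ => ⟨x, hx, hx'⟩⟩

theorem isIrreducible_compl_away : IsIrreducible ((away v : Set V.left)ᶜ) := by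
  refine ⟨?_, fun a b ha hb h₁ h₂ => ?_⟩
  · exact ((mem_iff_meets v ⊤).1 (mem_top v)).mono Set.inter_subset_left
  · exact (mem_iff_meets v (⟨a, ha⟩ ⊓ ⟨b, hb⟩)).1
      (mem_inf v ((mem_iff_meets v ⟨a, ha⟩).2 h₁) ((mem_iff_meets v ⟨b, hb⟩).2 h₂))

/-- the centre -/
noncomputable def centre : V.left := (isIrreducible_compl_away v).genericPoint

theorem centre_mem_iff (O : V.left.Opens) : centre v ∈ O ↔ Mem v O := by
  have h := (isIrreducible_compl_away v).isGenericPoint_genericPoint (away v).2.isClosed_compl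
  exact (h.mem_open_set_iff O.2).trans (mem_iff_meets v O).symm

theorem centre_map {V' : S.Etale} (f : V' ⟶ V) (v' : p.fiber.obj V') (hf : p.fiber.map f v' = v) :
    f.left.base (centre v') = centre v := by
  have key : ∀ O : V.left.Opens, f.left.base (centre v') ∈ O ↔ centre v ∈ O := fun O => by
    change centre v' ∈ f.left ⁻¹ᵁ O ↔ _
    rw [centre_mem_iff, centre_mem_iff]
    constructor
    · rintro ⟨w, hw⟩
      refine mem_of_hom v (restrictEtaleHom V' (f.left ⁻¹ᵁ O) ≫ f) w
        (by rw [Functor.map_comp, ConcreteCategory.comp_apply, hw, hf]) ?_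
      rintro _ ⟨q, rfl⟩
      exact q.2
    · rintro ⟨w, hw⟩
      obtain ⟨Z, z, a, b, ha, hb, hab⟩ := exists_cospan p f (restrictEtaleHom V O) v' w (hf.trans hw.symm)
      refine mem_of_hom v' a z ha ?_
      rintro _ ⟨q, rfl⟩
      change f.left.base (a.left.base q) ∈ O
      change (a ≫ f).left.base q ∈ O
      rw [hab]
      exact (b.left.base q).2
  exact (inseparable_iff_forall_isOpen.2 fun O hO => key ⟨O, hO⟩).eq

/-- hitting the centre is enough -/
theorem exists_of_centre_mem_range {W : S.Etale} (g : W ⟶ V) (h : centre v ∈ Set.range g.left.base) :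
    ∃ w, p.fiber.map g w = v := by
  have := etale_left g
  let O : V.left.Opens := ⟨_, g.left.isOpenMap.isOpen_range⟩
  obtain ⟨w, hw⟩ := (centre_mem_iff v O).1 h
  have hr : Set.range g.left.base ⊆ Set.range O.ι.base := by rw [Scheme.Opens.range_ι]; rfl
  let k : W ⟶ restrictEtale V O := MorphismProperty.Over.homMk (IsOpenImmersion.lift O.ι g.left hr) (by
    change IsOpenImmersion.lift O.ι g.left hr ≫ O.ι ≫ V.hom = W.hom
    rw [IsOpenImmersion.lift_fac_assoc, MorphismProperty.Over.w g])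
  obtain ⟨-, w', hw'⟩ := exists_of_cover p (fun _ : PUnit.{1} => W) (fun _ => k) (fun x => by
    obtain ⟨q, hq⟩ := x.2
    refine ⟨PUnit.unit, q, O.ι.isOpenEmbedding.injective ?_⟩
    exact (Scheme.Hom.comp_apply _ _ _).symm.trans
      ((congrArg (fun r : _ ⟶ V.left => r.base q) (IsOpenImmersion.lift_fac O.ι g.left hr)).trans hq)) w
  have hk : k ≫ restrictEtaleHom V O = g := MorphismProperty.Over.Hom.ext (IsOpenImmersion.lift_fac _ _ _)
  exact ⟨w', by rw [← hk, Functor.map_comp, ConcreteCategory.comp_apply, hw', hw]⟩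

section final

variable (p)

theorem exists_top : ∃ t : p.fiber.obj (EtCoh.top S), True := by
  obtain ⟨e⟩ := (IsCofiltered.nonempty (C := p.fiber.Elements))
  exact ⟨p.fiber.map (MorphismProperty.Over.homMk e.1.hom (Category.comp_id _)) e.2, trivial⟩

theorem eq_top (a b : p.fiber.obj (EtCoh.top S)) : a = b := by
  obtain ⟨Z, z, f, g, hf, hg⟩ := exists_common p a b
  have : f = g := MorphismProperty.Over.Hom.ext
    (((Category.comp_id _).symm.trans (MorphismProperty.Over.w f)).trans
      ((MorphismProperty.Over.w g).symm.trans (Category.comp_id _)))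
  rw [← hf, ← hg, this]

variable {Ω : Type u} [Field Ω] [IsSepClosed Ω] (ξ : Spec (CommRingCat.of Ω) ⟶ S)

/-- geometric points at the centres -/
noncomputable def lifts : p.fiber.Elements ⥤ Type u where
  obj e := { t : (Scheme.pointSmallEtale ξ).fiber.obj e.1 //
    (t.left : Spec (CommRingCat.of Ω) ⟶ e.1.left).base (default : Spec (CommRingCat.of Ω)) = centre e.2 }
  map {e e'} f := ↾fun t => ⟨(Scheme.pointSmallEtale ξ).fiber.map f.1 t.1, by
    refine Eq.trans ?_ (centre_map e'.2 f.1 e.2 f.2)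
    exact (Scheme.Hom.comp_apply _ _ _).trans (congrArg f.1.left.base t.2)⟩
  map_id e := by
    ext t
    exact congrArg (fun k => k t.1) ((Scheme.pointSmallEtale ξ).fiber.map_id e.1)
  map_comp f g := by
    ext t
    exact congrArg (fun k => k t.1) ((Scheme.pointSmallEtale ξ).fiber.map_comp f.1 g.1)

theorem finite_lifts (e : p.fiber.Elements) : Finite ((lifts p ξ).obj e) := by
  by_cases hne : IsEmpty ((lifts p ξ).obj e)
  · infer_instance
  obtain ⟨t₀⟩ := not_isEmpty_iff.1 hne
  let x := centre e.2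
  obtain ⟨O₁, hO, hxO, -⟩ := Opens.isBasis_iff_nbhd.mp S.isBasis_affineOpens (Opens.mem_top (e.1.hom.base x))
  let O : S.Opens := O₁
  obtain ⟨A₁, hA, hxA, hAO⟩ := Opens.isBasis_iff_nbhd.mp e.1.left.isBasis_affineOpens
    (show x ∈ e.1.hom ⁻¹ᵁ O from hxO)
  let A : e.1.left.Opens := A₁
  have hr : Set.range (A.ι ≫ e.1.hom).base ⊆ Set.range O.ι.base := by
    rw [Scheme.Opens.range_ι]
    rintro _ ⟨q, rfl⟩
    exact hAO q.2
  let g : (A : Scheme.{u}) ⟶ O := IsOpenImmersion.lift O.ι (A.ι ≫ e.1.hom) hr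
  have : IsAffine (A : Scheme.{u}) := hA
  have : IsAffine (O : Scheme.{u}) := hO
  have : AlgebraicGeometry.Etale e.1.hom := e.1.prop
  have : AlgebraicGeometry.Etale g :=
    EtCoh.etaleMP.of_postcomp (W' := EtCoh.etaleMP) g O.ι (inferInstanceAs (AlgebraicGeometry.Etale O.ι))
      (show AlgebraicGeometry.Etale (g ≫ O.ι) by rw [IsOpenImmersion.lift_fac]; infer_instance)
  have hξ : ξ.base (default : Spec (CommRingCat.of Ω)) = e.1.hom.base x := by
    refine ((congrArg (fun r : _ ⟶ S => r.base (default : Spec (CommRingCat.of Ω))) (CategoryTheory.Over.w t₀.1)).symm).trans ?_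
    exact (Scheme.Hom.comp_apply _ _ _).trans (congrArg e.1.hom.base t₀.2)
  have hrξ : Set.range ξ.base ⊆ Set.range O.ι.base := by
    rw [Scheme.Opens.range_ι]
    rintro _ ⟨q, rfl⟩
    rw [Subsingleton.elim q default, hξ]
    exact hxO
  have := finite_ptsOver g (IsOpenImmersion.lift O.ι ξ hrξ)
  have ht : ∀ t : (lifts p ξ).obj e, Set.range (t.1.left : Spec (CommRingCat.of Ω) ⟶ e.1.left).base ⊆ Set.range A.ι.base := fun t => by
    rw [Scheme.Opens.range_ι]
    rintro _ ⟨q, rfl⟩
    rw [Subsingleton.elim (α := Spec (CommRingCat.of Ω)) q default, t.2]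
    exact hxA
  refine Finite.of_injective (fun t => (⟨IsOpenImmersion.lift A.ι _ (ht t), ?_⟩ :
    PtsOver g (IsOpenImmersion.lift O.ι ξ hrξ))) fun a b h => ?_
  · rw [← cancel_mono O.ι, Category.assoc, IsOpenImmersion.lift_fac, IsOpenImmersion.lift_fac,
      IsOpenImmersion.lift_fac_assoc]
    exact CategoryTheory.Over.w t.1
  · refine Subtype.ext (CategoryTheory.Over.OverMorphism.ext ?_)
    have h' := congrArg (fun r => r.1 ≫ A.ι) h
    simpa only [IsOpenImmersion.lift_fac] using h'

theorem nonempty_lifts {s : S} (hs : ξ.base (default : Spec (CommRingCat.of Ω)) = s)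
    (hc : ∀ a : p.fiber.obj (EtCoh.top S), centre a = s) (e : p.fiber.Elements) :
    Nonempty ((lifts p ξ).obj e) := by
  let f : e.1 ⟶ EtCoh.top S := MorphismProperty.Over.homMk e.1.hom (Category.comp_id _)
  have hx : e.1.hom.base (centre e.2) = s := (centre_map _ f e.2 rfl).trans (hc _)
  obtain ⟨t, ht⟩ := Scheme.pointSmallEtaleFiberObjToPreimage_surjective ξ hs e.1 ⟨centre e.2, hx⟩
  exact ⟨⟨t, congrArg Subtype.val ht⟩⟩

variable {p ξ} (σ : (lifts p ξ).sections)

/-- the comparison -/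
noncomputable def alpha {W : S.Etale} (w : p.fiber.obj W) : (Scheme.pointSmallEtale ξ).fiber.obj W :=
  (σ.1 ⟨W, w⟩).1

theorem alpha_natural {W W' : S.Etale} (f : W ⟶ W') (w : p.fiber.obj W) :
    (Scheme.pointSmallEtale ξ).fiber.map f (alpha σ w) = alpha σ (p.fiber.map f w) :=
  congrArg Subtype.val (σ.2 (CategoryOfElements.homMk (⟨W, w⟩ : p.fiber.Elements) ⟨W', p.fiber.map f w⟩ f rfl))

theorem alpha_injective (W : S.Etale) : Function.Injective (alpha σ (W := W)) := by
  intro a b hab
  obtain ⟨Z, z, g, h, hg, hh⟩ := exists_common p a b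
  have hw : g.left ≫ W.hom = h.left ≫ W.hom := (MorphismProperty.Over.w g).trans (MorphismProperty.Over.w h).symm
  let e := pullback.fst (pullback.lift g.left h.left hw) (pullback.diagonal W.hom)
  have : AlgebraicGeometry.Etale W.hom := W.prop
  have : AlgebraicGeometry.Etale Z.hom := Z.prop
  have : AlgebraicGeometry.Etale e := MorphismProperty.pullback_fst _ _ (inferInstanceAs
    (AlgebraicGeometry.Etale (pullback.diagonal W.hom)))
  have : AlgebraicGeometry.Etale (e ≫ Z.hom) := inferInstance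
  let E : S.Etale := Scheme.Etale.mk (e ≫ Z.hom)
  let ie : E ⟶ Z := MorphismProperty.Over.homMk e rfl
  have heq : ie ≫ g = ie ≫ h := by
    refine MorphismProperty.Over.Hom.ext ?_
    change e ≫ g.left = e ≫ h.left
    have hc := pullback.condition (f := pullback.lift g.left h.left hw) (g := pullback.diagonal W.hom)
    have h1 := congrArg (· ≫ pullback.fst W.hom W.hom) hc
    have h2 := congrArg (· ≫ pullback.snd W.hom W.hom) hc
    simp only [Category.assoc, pullback.lift_fst, pullback.lift_snd, pullback.diagonal_fst,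
      pullback.diagonal_snd, Category.comp_id] at h1 h2
    exact h1.trans h2.symm
  have hc : centre z ∈ Set.range e.base := by
    have hl : (alpha σ z).left ≫ g.left = (alpha σ z).left ≫ h.left := by
      have h1 := congrArg (fun k => k.left) ((alpha_natural σ g z).trans ((congrArg (alpha σ) hg).trans hab))
      have h2 := congrArg (fun k => k.left) ((alpha_natural σ h z).trans (congrArg (alpha σ) hh))
      exact h1.trans h2.symm
    let t : Spec (CommRingCat.of Ω) ⟶ E.left :=
      pullback.lift ((alpha σ z).left : Spec (CommRingCat.of Ω) ⟶ Z.left) ((alpha σ z).left ≫ g.left)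
        (pullback.hom_ext (by simp) (by
          simp only [Category.assoc, pullback.lift_snd, pullback.diagonal_snd, Category.comp_id]
          exact hl.symm))
    refine ⟨t.base (default : Spec (CommRingCat.of Ω)), ?_⟩
    refine (Scheme.Hom.comp_apply _ _ _).symm.trans ?_
    rw [show t ≫ e = (alpha σ z).left from pullback.lift_fst _ _ _]
    exact (σ.1 ⟨Z, z⟩).2
  obtain ⟨w, hw'⟩ := exists_of_centre_mem_range z ie hc
  rw [← hg, ← hh, ← hw', ← ConcreteCategory.comp_apply, ← ConcreteCategory.comp_apply,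
    ← Functor.map_comp, ← Functor.map_comp, heq]

omit σ in
theorem exists_separation {W : S.Etale} [IsSeparated W.hom] :
    ∀ (n : ℕ) (t : Fin n → (Scheme.pointSmallEtale ξ).fiber.obj W),
      ∃ (Z : S.Etale) (_ : (Scheme.pointSmallEtale ξ).fiber.obj Z) (g : Fin n → (Z ⟶ W)),
        (∀ (a : (Scheme.pointSmallEtale ξ).fiber.obj Z) (i j : Fin n), t i ≠ t j →
          (Scheme.pointSmallEtale ξ).fiber.map (g i) a ≠ (Scheme.pointSmallEtale ξ).fiber.map (g j) a) := by
  intro n t
  obtain ⟨Z, z, g, hg⟩ : ∃ (Z : S.Etale) (z : (Scheme.pointSmallEtale ξ).fiber.obj Z) (g : Fin n → (Z ⟶ W)),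
      ∀ i, (Scheme.pointSmallEtale ξ).fiber.map (g i) z = t i := by
    classical
    let el : Fin n → (Scheme.pointSmallEtale ξ).fiber.Elements := fun i =>
      (Scheme.pointSmallEtale ξ).fiber.elementsMk W (t i)
    obtain ⟨K, hK⟩ := IsCofiltered.inf_objs_exists (Finset.univ.image el)
    let f : ∀ i, K ⟶ el i := fun i => (hK (Finset.mem_image_of_mem el (Finset.mem_univ i))).some
    exact ⟨K.1, K.2, fun i => (f i).1, fun i => (f i).2⟩
  let bad : Set Z.left := ⋃ (i : Fin n) (j : Fin n) (_ : t i ≠ t j),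
    Set.range (pullback.fst (pullback.lift (g i).left (g j).left
      ((MorphismProperty.Over.w (g i)).trans (MorphismProperty.Over.w (g j)).symm)) (pullback.diagonal W.hom)).base
  have hbad : IsClosed bad := isClosed_iUnion_of_finite fun i => isClosed_iUnion_of_finite fun j =>
    isClosed_iUnion_of_finite fun _ => (pullback.fst _ (pullback.diagonal W.hom)).isClosedEmbedding.isClosed_range
  let O : Z.left.Opens := ⟨badᶜ, hbad.isOpen_compl⟩
  have hzO : (z.left : Spec (CommRingCat.of Ω) ⟶ Z.left).base (default : Spec (CommRingCat.of Ω)) ∈ O := by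
    intro hz
    simp only [bad, Set.mem_iUnion] at hz
    obtain ⟨i, j, hij, q, hq⟩ := hz
    refine hij ?_
    have hw : (g i).left ≫ W.hom = (g j).left ≫ W.hom :=
      (MorphismProperty.Over.w (g i)).trans (MorphismProperty.Over.w (g j)).symm
    have : AlgebraicGeometry.Etale W.hom := W.prop
    have : AlgebraicGeometry.Etale (pullback.fst (pullback.lift (g i).left (g j).left hw) (pullback.diagonal W.hom)) :=
      MorphismProperty.pullback_fst _ _ (inferInstanceAs (AlgebraicGeometry.Etale (pullback.diagonal W.hom)))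
    obtain ⟨l, hl, -⟩ := Scheme.exists_fac_of_etale_of_isSepClosed
      (pullback.fst (pullback.lift (g i).left (g j).left hw) (pullback.diagonal W.hom))
      (z.left : Spec (CommRingCat.of Ω) ⟶ Z.left) q hq
    rw [← hg i, ← hg j]
    refine CategoryTheory.Over.OverMorphism.ext ?_
    change (z.left : Spec (CommRingCat.of Ω) ⟶ Z.left) ≫ (g i).left = z.left ≫ (g j).left
    have hc := congrArg (l ≫ ·) (pullback.condition (f := pullback.lift (g i).left (g j).left hw) (g := pullback.diagonal W.hom))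
    have h1 := congrArg (· ≫ pullback.fst W.hom W.hom) hc
    have h2 := congrArg (· ≫ pullback.snd W.hom W.hom) hc
    simp only [Category.assoc, pullback.lift_fst, pullback.lift_snd, pullback.diagonal_fst,
      pullback.diagonal_snd, Category.comp_id] at h1 h2
    rw [← hl, Category.assoc, Category.assoc]
    exact h1.trans h2.symm
  obtain ⟨z', -, -⟩ := exists_lift_point (restrictEtaleHom Z O) z ⟨_, hzO⟩ rfl
  refine ⟨restrictEtale Z O, z', fun i => restrictEtaleHom Z O ≫ g i, fun a i j hij he => ?_⟩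
  have hmem := ((a.left : Spec (CommRingCat.of Ω) ⟶ (restrictEtale Z O).left).base (default : Spec (CommRingCat.of Ω))).2
  refine hmem ?_
  simp only [bad, Set.mem_iUnion]
  refine ⟨i, j, hij, ?_⟩
  have he' : (a.left : Spec (CommRingCat.of Ω) ⟶ (restrictEtale Z O).left) ≫ O.ι ≫ (g i).left =
      a.left ≫ O.ι ≫ (g j).left := congrArg (fun k => k.left) he
  let l : Spec (CommRingCat.of Ω) ⟶ pullback (pullback.lift (g i).left (g j).left
      ((MorphismProperty.Over.w (g i)).trans (MorphismProperty.Over.w (g j)).symm)) (pullback.diagonal W.hom) :=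
    pullback.lift ((a.left : Spec (CommRingCat.of Ω) ⟶ (restrictEtale Z O).left) ≫ O.ι) (a.left ≫ O.ι ≫ (g i).left)
      (pullback.hom_ext (by simp) (by
        simp only [Category.assoc, pullback.lift_snd, pullback.diagonal_snd, Category.comp_id]
        exact he'.symm))
  refine ⟨l.base (default : Spec (CommRingCat.of Ω)), ?_⟩
  refine (Scheme.Hom.comp_apply _ _ _).symm.trans ?_
  rw [pullback.lift_fst]
  exact Scheme.Hom.comp_apply _ _ _

/-- surjectivity for affine objects over an affine open -/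
theorem alpha_surjective_of_separated {W : S.Etale} [IsSeparated W.hom]
    [Finite ((Scheme.pointSmallEtale ξ).fiber.obj W)]
    {s : S} (hs : ξ.base (default : Spec (CommRingCat.of Ω)) = s)
    (hc : ∀ a : p.fiber.obj (EtCoh.top S), centre a = s) : Function.Surjective (alpha σ (W := W)) := by
  classical
  have := Fintype.ofFinite ((Scheme.pointSmallEtale ξ).fiber.obj W)
  let n := Fintype.card ((Scheme.pointSmallEtale ξ).fiber.obj W)
  let en := (Fintype.equivFin ((Scheme.pointSmallEtale ξ).fiber.obj W)).symm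
  obtain ⟨Z, z, g, hg⟩ := exists_separation (ξ := ξ) (W := W) n en
  let f : Z ⟶ EtCoh.top S := MorphismProperty.Over.homMk Z.hom (Category.comp_id _)
  obtain ⟨t₀, -⟩ := exists_top p
  obtain ⟨z₀, -⟩ := exists_of_centre_mem_range t₀ f ⟨(z.left : Spec (CommRingCat.of Ω) ⟶ Z.left).base (default : Spec (CommRingCat.of Ω)), by
    refine Eq.trans ?_ (hc t₀).symm
    refine Eq.trans ?_ hs
    exact (Scheme.Hom.comp_apply _ _ _).symm.trans
      (congrArg (fun r : _ ⟶ S => r.base (default : Spec (CommRingCat.of Ω))) (CategoryTheory.Over.w z))⟩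
  have hinj : Function.Injective fun i : Fin n => alpha σ (p.fiber.map (g i) z₀) := fun i j h => by
    by_contra hne
    refine hg (alpha σ z₀) i j (fun e => hne (en.injective e)) ?_
    rw [alpha_natural, alpha_natural]
    exact h
  intro t
  obtain ⟨i, hi⟩ := ((Fintype.bijective_iff_injective_and_card _).2 ⟨hinj, Fintype.card_fin n⟩).2 t
  exact ⟨_, hi⟩

theorem alpha_surjective {s : S} (hs : ξ.base (default : Spec (CommRingCat.of Ω)) = s)
    (hc : ∀ a : p.fiber.obj (EtCoh.top S), centre a = s) (W : S.Etale) : Function.Surjective (alpha σ (W := W)) := by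
  intro t
  let y := (t.left : Spec (CommRingCat.of Ω) ⟶ W.left).base (default : Spec (CommRingCat.of Ω))
  obtain ⟨O₁, hO, hyO, -⟩ := Opens.isBasis_iff_nbhd.mp S.isBasis_affineOpens (Opens.mem_top (W.hom.base y))
  let O : S.Opens := O₁
  obtain ⟨A₁, hA, hyA, hAO⟩ := Opens.isBasis_iff_nbhd.mp W.left.isBasis_affineOpens
    (show y ∈ W.hom ⁻¹ᵁ O from hyO)
  let A : W.left.Opens := A₁
  have hr : Set.range (A.ι ≫ W.hom).base ⊆ Set.range O.ι.base := by
    rw [Scheme.Opens.range_ι]
    rintro _ ⟨q, rfl⟩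
    exact hAO q.2
  let g : (A : Scheme.{u}) ⟶ O := IsOpenImmersion.lift O.ι (A.ι ≫ W.hom) hr
  have : IsAffine (A : Scheme.{u}) := hA
  have : IsAffine (O : Scheme.{u}) := hO
  have : AlgebraicGeometry.Etale W.hom := W.prop
  have hfac : g ≫ O.ι = A.ι ≫ W.hom := IsOpenImmersion.lift_fac _ _ _
  have : IsSeparated (restrictEtale W A).hom := by
    change IsSeparated (A.ι ≫ W.hom)
    rw [← hfac]
    infer_instance
  have : AlgebraicGeometry.Etale g :=
    EtCoh.etaleMP.of_postcomp (W' := EtCoh.etaleMP) g O.ι (inferInstanceAs (AlgebraicGeometry.Etale O.ι))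
      (show AlgebraicGeometry.Etale (g ≫ O.ι) by rw [hfac]; infer_instance)
  have hξ : ξ.base (default : Spec (CommRingCat.of Ω)) = W.hom.base y := by
    refine ((congrArg (fun r : _ ⟶ S => r.base (default : Spec (CommRingCat.of Ω))) (CategoryTheory.Over.w t)).symm).trans ?_
    exact Scheme.Hom.comp_apply _ _ _
  have hrξ : Set.range ξ.base ⊆ Set.range O.ι.base := by
    rw [Scheme.Opens.range_ι]
    rintro _ ⟨q, rfl⟩
    rw [Subsingleton.elim q default, hξ]
    exact hyO
  have := finite_ptsOver g (IsOpenImmersion.lift O.ι ξ hrξ)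
  have : Finite ((Scheme.pointSmallEtale ξ).fiber.obj (restrictEtale W A)) := by
    refine Finite.of_injective (fun a => (⟨(a.left : Spec (CommRingCat.of Ω) ⟶ (A : Scheme.{u})), ?_⟩ :
      PtsOver g (IsOpenImmersion.lift O.ι ξ hrξ))) fun a b h => CategoryTheory.Over.OverMorphism.ext (congrArg Subtype.val h)
    rw [← cancel_mono O.ι, Category.assoc, hfac, IsOpenImmersion.lift_fac]
    exact CategoryTheory.Over.w a
  obtain ⟨t', ht', -⟩ := exists_lift_point (restrictEtaleHom W A) t ⟨y, hyA⟩ rfl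
  obtain ⟨w, hw⟩ := alpha_surjective_of_separated σ (W := restrictEtale W A) hs hc t'
  exact ⟨p.fiber.map (restrictEtaleHom W A) w, by rw [← alpha_natural, hw, ht']⟩

end final

theorem exists_geometric (p : GrothendieckTopology.Point.{u} S.smallEtaleTopology) :
    ∃ (Ω : Type u) (_ : Field Ω) (_ : IsSepClosed Ω) (ξ : Spec (CommRingCat.of Ω) ⟶ S),
      Nonempty (p.fiber ≅ (Scheme.pointSmallEtale ξ).fiber) := by
  obtain ⟨t₀, -⟩ := exists_top p
  let s : S := centre t₀
  let Ω := SeparableClosure (S.residueField s)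
  let ξ : Spec (CommRingCat.of Ω) ⟶ S :=
    Spec.map (CommRingCat.ofHom (algebraMap (S.residueField s) Ω)) ≫ S.fromSpecResidueField s
  have hs : ξ.base (default : Spec (CommRingCat.of Ω)) = s :=
    (Scheme.Hom.comp_apply _ _ _).trans (Scheme.fromSpecResidueField_apply s _)
  have hc : ∀ a : p.fiber.obj (EtCoh.top S), centre a = s := fun a => by rw [eq_top p a t₀]
  have := finite_lifts p ξ
  have := nonempty_lifts p ξ hs hc
  obtain ⟨σ₀, hσ⟩ := nonempty_sections_of_finite_cofiltered_system (lifts p ξ)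
  let σ : (lifts p ξ).sections := ⟨σ₀, hσ⟩
  refine ⟨Ω, inferInstance, inferInstance, ξ, ⟨NatIso.ofComponents
    (fun W => (Equiv.ofBijective (alpha σ) ⟨alpha_injective σ W, alpha_surjective σ hs hc W⟩).toIso) ?_⟩⟩
  intro W W' f
  ext w
  exact (alpha_natural σ f w).symm

end Groth.Agent.EtCore73.PointsGeometric
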