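import Groth.Agent.BigSiteLib.Along
import Groth.Agent.SiteBase.LerayTop
import Mathlib.AlgebraicGeometry.Sites.Proetale
import Mathlib.CategoryTheory.MorphismProperty.CommaSites
import Mathlib.CategoryTheory.Sites.DenseSubsite.InducedTopology

/-! small and big pro-etale sites -/

universe u

open CategoryTheory CategoryTheory.Limits AlgebraicGeometry Opposite

namespace Groth.Agent.EtCore73.ProEtBig

set_option backward.isDefEq.respectTransparency false
set_option backward.isDefEq.respectTransparency.types false

variable (S : Scheme.{u})

theorem cocontinuous_forget :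
    (Scheme.ProEt.forget S).IsCocontinuous (Scheme.ProEt.topology S) (Scheme.proetaleTopology.over S) := by
  have e : Scheme.ProEt.topology S = (Scheme.ProEt.forget S).restrictedTopology (Scheme.proetaleTopology.over S) :=
    MorphismProperty.toGrothendieck_comap_forget_eq_restrictedTopology _
      Scheme.proetalePrecoverage_le_precoverage_weaklyEtale
  rw [e]
  infer_instance

/-- restriction -/
noncomputable abbrev res :
    Sheaf (Scheme.proetaleTopology.over S) AddCommGrpCat.{u + 1} ⥤ Sheaf (Scheme.ProEt.topology S) AddCommGrpCat.{u + 1} :=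
  (Scheme.ProEt.forget S).sheafPushforwardContinuous AddCommGrpCat.{u + 1} (Scheme.ProEt.topology S)
    (Scheme.proetaleTopology.over S)

theorem pull_exact :
    PreservesFiniteLimits ((Scheme.ProEt.forget S).sheafPullback AddCommGrpCat.{u + 1} (Scheme.ProEt.topology S)
      (Scheme.proetaleTopology.over S)) :=
  BigSiteLib.sheafPullback_preservesFiniteLimits (Scheme.ProEt.forget S) _ _

theorem injective_res (I : Sheaf (Scheme.proetaleTopology.over S) AddCommGrpCat.{u + 1}) [Injective I] :
    Injective ((res S).obj I) := by
  have := pull_exact S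
  exact Injective.injective_of_adjoint ((Scheme.ProEt.forget S).sheafAdjunctionContinuous AddCommGrpCat.{u + 1}
    (Scheme.ProEt.topology S) (Scheme.proetaleTopology.over S)) I

theorem res_rightExact : PreservesFiniteColimits (res S) := by
  have := cocontinuous_forget S
  have : (res S).IsLeftAdjoint := ((Scheme.ProEt.forget S).sheafAdjunctionCocontinuous AddCommGrpCat.{u + 1}
    (Scheme.ProEt.topology S) (Scheme.proetaleTopology.over S)).isLeftAdjoint
  infer_instance

theorem res_leftExact : PreservesFiniteLimits (res S) := by
  have : (res S).IsRightAdjoint := ((Scheme.ProEt.forget S).sheafAdjunctionContinuous AddCommGrpCat.{u + 1}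
    (Scheme.ProEt.topology S) (Scheme.proetaleTopology.over S)).isRightAdjoint
  infer_instance

theorem isIso_unit (G : Sheaf (Scheme.ProEt.topology S) AddCommGrpCat.{u + 1}) :
    IsIso (((Scheme.ProEt.forget S).sheafAdjunctionContinuous AddCommGrpCat.{u + 1}
      (Scheme.ProEt.topology S) (Scheme.proetaleTopology.over S)).unit.app G) := by
  have := cocontinuous_forget S
  let adj := (Scheme.ProEt.forget S).sheafAdjunctionCocontinuous AddCommGrpCat.{u + 1}
    (Scheme.ProEt.topology S) (Scheme.proetaleTopology.over S)
  haveI : ∀ F, IsIso (adj.counit.app F) := fun F => by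
    haveI : IsIso ((sheafToPresheaf _ _).map (adj.counit.app F)) := by
      show IsIso (adj.counit.app F).hom
      rw [Functor.sheafAdjunctionCocontinuous_counit_app_hom, Functor.ranAdjunction_counit]
      haveI : (Scheme.ProEt.forget S).op.Full := inferInstance
      haveI : (Scheme.ProEt.forget S).op.Faithful := inferInstance
      haveI : (Scheme.ProEt.forget S).op.HasPointwiseRightKanExtension F.obj := inferInstance
      haveI : ∀ X, IsIso (((Scheme.ProEt.forget S).op.ranCounit.app F.obj).app X) := fun X =>
        ((Scheme.ProEt.forget S).op.isPointwiseRightKanExtensionRanCounit F.obj ((Scheme.ProEt.forget S).op.obj X)).isIso_hom_app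
      exact @NatIso.isIso_of_isIso_app _ _ _ _ _ _ _ this
    exact isIso_of_reflects_iso _ (sheafToPresheaf _ _)
  haveI : IsIso adj.counit := NatIso.isIso_of_isIso_app _
  let adj₁ := (Scheme.ProEt.forget S).sheafAdjunctionContinuous AddCommGrpCat.{u + 1}
    (Scheme.ProEt.topology S) (Scheme.proetaleTopology.over S)
  let t : Adjunction.Triple _ (res S) _ := ⟨adj₁, adj⟩
  haveI : IsIso adj₁.unit := (Adjunction.Triple.isIso_unit_iff_isIso_counit t).2 inferInstance
  infer_instance

variable {S} {T : Scheme.{u}} (f : T ⟶ S)

theorem injective_restrict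
    [(Scheme.ProEt.forget T ⋙ Over.map f).IsContinuous (Scheme.ProEt.topology T) (Scheme.proetaleTopology.over S)]
    (I : Sheaf (Scheme.proetaleTopology.over S) AddCommGrpCat.{u + 1}) [Injective I] :
    Injective (((Scheme.ProEt.forget T ⋙ Over.map f).sheafPushforwardContinuous AddCommGrpCat.{u + 1}
      (Scheme.ProEt.topology T) (Scheme.proetaleTopology.over S)).obj I) := by
  haveI := BigSiteLib.shriekAb_preservesFiniteLimits f Scheme.proetalePrecoverage
  haveI : (BigSite.shriekAb Scheme.proetalePrecoverage f).PreservesMonomorphisms := inferInstance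
  haveI hI : Injective ((BigSite.pullBig Scheme.proetalePrecoverage f AddCommGrpCat.{u + 1}).obj I) :=
    Injective.injective_of_adjoint (BigSite.shriekAbAdj Scheme.proetalePrecoverage f) I
  exact Injective.of_iso (((Functor.sheafPushforwardContinuousComp (Scheme.ProEt.forget T) (Over.map f)
    AddCommGrpCat.{u + 1} (Scheme.ProEt.topology T) (Scheme.proetaleTopology.over T)
    (Scheme.proetaleTopology.over S))).app I) (@injective_res T _ hI)

end Groth.Agent.EtCore73.ProEtBig
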