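import Mathlib.CategoryTheory.Abelian.Basic
import Mathlib.CategoryTheory.Adjunction.Limits
import Mathlib.CategoryTheory.Comma.Basic
import Mathlib.CategoryTheory.Limits.Shapes.Pullback.IsPullback.Basic
import Mathlib.CategoryTheory.Adjunction.FullyFaithful

/-! gluing from a pair of adjunctions with invertible counits -/

open CategoryTheory CategoryTheory.Limits

namespace Groth.Agent.EtCore73.RecollGlue

universe v v₁ v₂ w w₁ w₂

variable {A : Type w} [Category.{v} A] {B : Type w₁} [Category.{v₁} B] {C : Type w₂} [Category.{v₂} C]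
  [HasPullbacks A] [HasZeroMorphisms C]
  {L₁ : A ⥤ B} {R₁ : B ⥤ A} (adj₁ : L₁ ⊣ R₁) {L₂ : A ⥤ C} {R₂ : C ⥤ A} (adj₂ : L₂ ⊣ R₂)

/-- the functor to gluing data -/
def trip : A ⥤ Comma (𝟭 B) (R₂ ⋙ L₁) where
  obj F :=
    { left := L₁.obj F
      right := L₂.obj F
      hom := L₁.map (adj₂.unit.app F) }
  map {F G} φ :=
    { left := L₁.map φ
      right := L₂.map φ
      w := by
        dsimp
        rw [← Functor.map_comp, ← Functor.map_comp]
        congr 1
        exact (adj₂.unit.naturality φ) }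
  map_id F := by ext <;> simp
  map_comp φ ψ := by ext <;> simp

variable [∀ Y, IsIso (adj₁.counit.app Y)] [∀ Y, IsIso (adj₂.counit.app Y)]
  [PreservesLimitsOfShape WalkingCospan L₁] [PreservesLimitsOfShape WalkingCospan L₂]
  (hz : ∀ Y, IsZero (L₂.obj (R₁.obj Y)))
  (hc : ∀ {F G : A} (a : F ⟶ G), IsIso (L₁.map a) → IsIso (L₂.map a) → IsIso a)

omit [HasPullbacks A] [∀ Y, IsIso (adj₂.counit.app Y)] [HasZeroMorphisms C]
  [PreservesLimitsOfShape WalkingCospan L₁] [PreservesLimitsOfShape WalkingCospan L₂] in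
theorem isIso_map_unit (M : A) : IsIso (L₁.map (adj₁.unit.app M)) :=
  @IsIso.of_isIso_fac_right _ _ _ _ _ _ _ _ inferInstance (IsIso.id _) (adj₁.left_triangle_components M)

section square

variable {P : A} {G : B} {H : C} {φ : G ⟶ L₁.obj (R₂.obj H)} {p : P ⟶ R₁.obj G} {q : P ⟶ R₂.obj H}
  (sq : IsPullback p q (R₁.map φ) (adj₁.unit.app (R₂.obj H)))

include sq

omit [HasPullbacks A] [∀ Y, IsIso (adj₂.counit.app Y)] [HasZeroMorphisms C]
  [PreservesLimitsOfShape WalkingCospan L₂] in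
theorem isIso_left : IsIso (L₁.map p ≫ adj₁.counit.app G) := by
  have := isIso_map_unit adj₁ (R₂.obj H)
  have : IsIso (L₁.map p) := (sq.map L₁).isIso_fst_of_isIso
  infer_instance

include hz in
omit [HasPullbacks A] [∀ Y, IsIso (adj₁.counit.app Y)]
  [PreservesLimitsOfShape WalkingCospan L₁] in
theorem isIso_right : IsIso (L₂.map q ≫ adj₂.counit.app H) := by
  have : IsIso (L₂.map (R₁.map φ)) := (hz G).isIso (hz _) _
  have : IsIso (L₂.map q) := (sq.map L₂).isIso_snd_of_isIso
  infer_instance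

omit [HasPullbacks A] [∀ Y, IsIso (adj₁.counit.app Y)] [∀ Y, IsIso (adj₂.counit.app Y)] [HasZeroMorphisms C]
  [PreservesLimitsOfShape WalkingCospan L₁] [PreservesLimitsOfShape WalkingCospan L₂] in
theorem compat : (L₁.map p ≫ adj₁.counit.app G) ≫ φ =
    L₁.map (adj₂.unit.app P) ≫ L₁.map (R₂.map (L₂.map q ≫ adj₂.counit.app H)) := by
  have e1 : adj₂.unit.app P ≫ R₂.map (L₂.map q ≫ adj₂.counit.app H) = q := by
    simp
  rw [← Functor.map_comp, e1, Category.assoc]
  refine ((congrArg (L₁.map p ≫ ·) (adj₁.counit.naturality φ).symm).trans ?_)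
  refine ((Category.assoc _ _ _).symm.trans ((congrArg (· ≫ _) (((L₁.map_comp _ _).symm.trans (congrArg L₁.map sq.w)).trans (L₁.map_comp _ _))).trans ?_))
  exact (Category.assoc _ _ _).trans ((congrArg (L₁.map q ≫ ·) (adj₁.left_triangle_components _)).trans (Category.comp_id _))

end square

/-- the canonical comparison with the fibre product -/
noncomputable def cmp (F : A) :
    F ⟶ pullback (R₁.map (L₁.map (adj₂.unit.app F))) (adj₁.unit.app (R₂.obj (L₂.obj F))) :=
  pullback.lift (adj₁.unit.app F) (adj₂.unit.app F) (adj₁.unit.naturality (adj₂.unit.app F)).symm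

include hz hc adj₁ adj₂ in
theorem isIso_cmp (F : A) : IsIso (cmp adj₁ adj₂ F) := by
  have sq := IsPullback.of_hasPullback (R₁.map (L₁.map (adj₂.unit.app F))) (adj₁.unit.app (R₂.obj (L₂.obj F)))
  have h1 := isIso_left adj₁ sq
  have h2 := isIso_right adj₁ adj₂ hz sq
  refine hc _ ?_ ?_
  · have e : L₁.map (cmp adj₁ adj₂ F) ≫ (L₁.map (pullback.fst _ _) ≫ adj₁.counit.app _) = 𝟙 _ := by
      rw [← Functor.map_comp_assoc, cmp, pullback.lift_fst]
      exact adj₁.left_triangle_components F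
    exact @IsIso.of_isIso_fac_right _ _ _ _ _ _ _ _ h1 inferInstance e
  · have e : L₂.map (cmp adj₁ adj₂ F) ≫ (L₂.map (pullback.snd _ _) ≫ adj₂.counit.app _) = 𝟙 _ := by
      rw [← Functor.map_comp_assoc, cmp, pullback.lift_snd]
      exact adj₂.left_triangle_components F
    exact @IsIso.of_isIso_fac_right _ _ _ _ _ _ _ _ h2 inferInstance e

include hz hc adj₁ adj₂ in
theorem hom_ext {F F' : A} (a b : F ⟶ F') (h1 : L₁.map a = L₁.map b) (h2 : L₂.map a = L₂.map b) : a = b := by
  have := isIso_cmp adj₁ adj₂ hz hc F'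
  refine (cancel_mono (cmp adj₁ adj₂ F')).1 (pullback.hom_ext ?_ ?_)
  · simp only [cmp, Category.assoc, pullback.lift_fst]
    exact (adj₁.unit.naturality a).trans ((congrArg (fun t => adj₁.unit.app F ≫ R₁.map t) h1).trans
      (adj₁.unit.naturality b).symm)
  · simp only [cmp, Category.assoc, pullback.lift_snd]
    exact (adj₂.unit.naturality a).trans ((congrArg (fun t => adj₂.unit.app F ≫ R₂.map t) h2).trans
      (adj₂.unit.naturality b).symm)

include hz hc adj₁ adj₂ in
theorem exists_hom {F F' : A} (a : L₁.obj F ⟶ L₁.obj F') (b : L₂.obj F ⟶ L₂.obj F')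
    (w : a ≫ L₁.map (adj₂.unit.app F') = L₁.map (adj₂.unit.app F) ≫ L₁.map (R₂.map b)) :
    ∃ f : F ⟶ F', L₁.map f = a ∧ L₂.map f = b := by
  have := isIso_cmp adj₁ adj₂ hz hc F'
  have hw : (adj₁.unit.app F ≫ R₁.map a) ≫ R₁.map (L₁.map (adj₂.unit.app F')) =
      (adj₂.unit.app F ≫ R₂.map b) ≫ adj₁.unit.app _ := by
    rw [Category.assoc, ← Functor.map_comp, w, ← Functor.map_comp]
    exact (adj₁.unit.naturality _).symm
  let l := pullback.lift _ _ hw ≫ inv (cmp adj₁ adj₂ F')
  have l1 : l ≫ adj₁.unit.app F' = adj₁.unit.app F ≫ R₁.map a := by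
    have e : adj₁.unit.app F' = cmp adj₁ adj₂ F' ≫ pullback.fst _ _ := (pullback.lift_fst _ _ _).symm
    rw [e]
    simp [l]
    exact pullback.lift_fst _ _ _
  have l2 : l ≫ adj₂.unit.app F' = adj₂.unit.app F ≫ R₂.map b := by
    have e : adj₂.unit.app F' = cmp adj₁ adj₂ F' ≫ pullback.snd _ _ := (pullback.lift_snd _ _ _).symm
    rw [e]
    simp [l]
    exact pullback.lift_snd _ _ _
  refine ⟨l, (adj₁.homEquiv F (L₁.obj F')).injective ?_, (adj₂.homEquiv F (L₂.obj F')).injective ?_⟩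
  · rw [adj₁.homEquiv_unit, adj₁.homEquiv_unit]
    exact ((adj₁.unit.naturality l).symm).trans l1
  · rw [adj₂.homEquiv_unit, adj₂.homEquiv_unit]
    exact ((adj₂.unit.naturality l).symm).trans l2

include hz hc adj₁ adj₂ in
theorem trip_isEquivalence : (trip (L₁ := L₁) adj₂).IsEquivalence where
  faithful := ⟨fun {F G a b} h => hom_ext adj₁ adj₂ hz hc a b (congrArg CommaMorphism.left h) (congrArg CommaMorphism.right h)⟩
  full := ⟨fun {F G} u => by
    obtain ⟨f, h1, h2⟩ := exists_hom adj₁ adj₂ hz hc u.left u.right u.w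
    exact ⟨f, CommaMorphism.ext h1 h2⟩⟩
  essSurj := ⟨fun T => by
    have sq := IsPullback.of_hasPullback (R₁.map T.hom) (adj₁.unit.app (R₂.obj T.right))
    have h1 := isIso_left adj₁ sq
    have h2 := isIso_right adj₁ adj₂ hz sq
    exact ⟨_, ⟨Comma.isoMk (@asIso _ _ _ _ _ h1) (@asIso _ _ _ _ _ h2) (compat adj₁ adj₂ sq)⟩⟩⟩

end Groth.Agent.EtCore73.RecollGlue
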