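import Groth.Prelude.Def_SpSeq
import Mathlib.CategoryTheory.Subobject.Lattice
import Mathlib.Algebra.Homology.HomologicalComplexAbelian
import Mathlib.Data.Int.Interval

/-!
# A spectral sequence whose first differential leaves one column
-/

universe v u

set_option autoImplicit false
set_option backward.isDefEq.respectTransparency false
set_option backward.isDefEq.respectTransparency.types false

open CategoryTheory CategoryTheory.Limits

namespace Groth.Agent.EtCore73.RowSS

variable {C : Type u} [Category.{v} C] [Abelian C] (L : ℤ → CochainComplex C ℤ)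

/-- the bidegree -/
abbrev sh (r : ℤ) : ComplexShape (ℤ × ℤ) := ComplexShape.up' ((r, 1 - r) : ℤ × ℤ)

theorem sh_one_rel {i j : ℤ × ℤ} (h : (sh 1).Rel i j) : i.2 = j.2 ∧ i.1 + 1 = j.1 := by
  have h1 := congrArg Prod.fst (show i + ((1, 1 - 1) : ℤ × ℤ) = j from h)
  have h2 := congrArg Prod.snd (show i + ((1, 1 - 1) : ℤ × ℤ) = j from h)
  simp at h1 h2
  exact ⟨h2, h1⟩

/-- the differential, row by row -/
noncomputable def dRow (i j : ℤ × ℤ) : (L i.2).X i.1 ⟶ (L j.2).X j.1 :=
  if h : i.2 = j.2 then (L i.2).d i.1 j.1 ≫ eqToHom (by rw [h]) else 0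

/-- the first page -/
noncomputable def pageOne : HomologicalComplex C (sh 1) where
  X pq := (L pq.2).X pq.1
  d := dRow L
  shape i j hij := by
    unfold dRow
    split_ifs with h
    · rw [(L i.2).shape, zero_comp]
      intro hr
      apply hij
      show i + ((1, 1 - 1) : ℤ × ℤ) = j
      exact Prod.ext hr (by simp [h])
    · rfl
  d_comp_d' i j k hij hjk := by
    obtain ⟨p, q⟩ := i
    obtain ⟨p', q'⟩ := j
    obtain ⟨p'', q''⟩ := k
    obtain ⟨e, -⟩ := sh_one_rel hij
    obtain ⟨e', -⟩ := sh_one_rel hjk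
    subst e e'
    simp [dRow]

theorem nonempty_homology_pageOne (pq : ℤ × ℤ) :
    Nonempty ((pageOne L).homology pq ≅ (L pq.2).homology pq.1) := by
  obtain ⟨p, q⟩ := pq
  have hp : (sh 1).prev (p, q) = (p - 1, q) := (sh 1).prev_eq' (Prod.ext (by simp) (by simp))
  have hn : (sh 1).next (p, q) = (p + 1, q) := (sh 1).next_eq' (Prod.ext (by simp) (by simp))
  let e : (pageOne L).sc' (p - 1, q) (p, q) (p + 1, q) ≅ (L q).sc' (p - 1) p (p + 1) :=
    ShortComplex.isoMk (Iso.refl _) (Iso.refl _) (Iso.refl _) (by simp [pageOne, dRow]) (by simp [pageOne, dRow])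
  exact ⟨ShortComplex.homologyMapIso ((pageOne L).isoSc' _ _ _ hp hn ≪≫ e ≪≫
    ((L q).isoSc' _ _ _ (by simp) (by simp)).symm)⟩

/-- pages with zero differential -/
noncomputable def pageZero (r : ℤ) : HomologicalComplex C (sh r) where
  X pq := (L pq.2).homology pq.1
  d _ _ := 0

theorem nonempty_homology_pageZero (r : ℤ) (pq : ℤ × ℤ) :
    Nonempty ((pageZero L r).homology pq ≅ (L pq.2).homology pq.1) := by
  have h₃ := (pageZero L r).isIso_homologyπ (pq - (r, 1 - r)) pq
    ((sh r).prev_eq' (by simp)) rfl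
  have h₄ := (pageZero L r).isIso_iCycles pq (pq + (r, 1 - r)) ((sh r).next_eq' (by simp)) rfl
  exact ⟨(asIso ((pageZero L r).homologyπ pq)).symm ≪≫ asIso ((pageZero L r).iCycles pq)⟩

/-- all pages -/
noncomputable def page (r : ℤ) : HomologicalComplex C (sh r) :=
  if h : r = 1 then h ▸ pageOne L else pageZero L r

theorem page_one : page L 1 = pageOne L := dif_pos rfl

theorem page_of_ne {r : ℤ} (h : r ≠ 1) : page L r = pageZero L r := dif_neg h

theorem nonempty_page_iso (r r' : ℤ) (pq : ℤ × ℤ) (h : r + 1 = r') (hr : 1 ≤ r) :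
    Nonempty ((page L r).homology pq ≅ (page L r').X pq) := by
  rw [page_of_ne L (by omega : r' ≠ 1)]
  by_cases h1 : r = 1
  · subst h1
    rw [page_one]
    exact nonempty_homology_pageOne L pq
  · rw [page_of_ne L h1]
    exact nonempty_homology_pageZero L r pq

/-- the spectral sequence -/
noncomputable def ss : CohomologicalSpectralSequence C 1 where
  page r _ := page L r
  iso r r' pq h hr := (nonempty_page_iso L r r' pq h hr).some

theorem isZero_grPiece_of_eq {X : C} {F : ℤ → Subobject X} (hF : Antitone F) {p : ℤ} (h : F p = F (p + 1)) :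
    IsZero (SpSeq.grPiece F hF p) := by
  haveI : IsIso ((F (p + 1)).ofLE (F p) (hF (Int.le_add_one le_rfl))) :=
    ⟨(F p).ofLE (F (p + 1)) h.le, by simp, by simp⟩
  exact isZero_cokernel_of_epi _

theorem nonempty_grPiece_iso {X : C} {F : ℤ → Subobject X} (hF : Antitone F) {p : ℤ} (h : F p = ⊤)
    (h' : F (p + 1) = ⊥) : Nonempty (SpSeq.grPiece F hF p ≅ X) := by
  have hz : IsZero ((F (p + 1) : Subobject X) : C) := by
    rw [h']
    exact IsZero.of_iso (isZero_zero C) Subobject.botCoeIsoZero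
  haveI : IsIso (F p).arrow := (Subobject.isIso_arrow_iff_eq_top _).2 h
  exact ⟨cokernelIsoOfEq (hz.eq_of_src _ 0) ≪≫ cokernelZeroIsoTarget ≪≫ asIso (F p).arrow⟩

/-- a spectral sequence with given first page, whose second page is one column -/
theorem exists_of_column (H : ℤ → C) (hbd : ∀ q p : ℤ, p < 0 ∨ q < 0 → IsZero ((L q).X p))
    (h0 : ∀ q p : ℤ, p ≠ 0 → IsZero ((L q).homology p)) (hH : ∀ q, Nonempty ((L q).homology 0 ≅ H q)) :
    ∃ (E : CohomologicalSpectralSequence C 1) (a : SpSeq.Abutment E H),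
      (∀ n, a.IsFinite n) ∧ SpSeq.IsBounded E ∧
      ∀ p q : ℤ, Nonempty ((E.page 1 le_rfl).X (p, q) ≅ (L q).X p) := by
  classical
  let fil : ∀ n : ℤ, ℤ → Subobject (H n) := fun n p => if p ≤ 0 then ⊤ else ⊥
  have hanti : ∀ n, Antitone (fil n) := fun n a b hab => by
    simp only [fil]
    split_ifs with h1 h2 <;> first | exact le_rfl | exact bot_le | omega
  have hβ : ∀ pq : ℤ × ℤ, Nonempty (((ss L).page 2 (by omega)).X pq ≅
      SpSeq.grPiece (fil (pq.1 + pq.2)) (hanti (pq.1 + pq.2)) pq.1) := by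
    rintro ⟨p, q⟩
    show Nonempty ((page L 2).X (p, q) ≅ _)
    rw [page_of_ne L (by omega : (2 : ℤ) ≠ 1)]
    by_cases hp : p = 0
    · subst hp
      obtain ⟨e⟩ := hH q
      obtain ⟨e'⟩ := nonempty_grPiece_iso (hanti (0 + q)) (p := 0) (if_pos le_rfl) (if_neg (by omega))
      exact ⟨e ≪≫ eqToIso (by rw [zero_add]) ≪≫ e'.symm⟩
    · refine ⟨(h0 q p hp).iso (isZero_grPiece_of_eq _ ?_)⟩
      simp only [fil]
      split_ifs with h1 h2 <;> first | rfl | omega
  refine ⟨ss L, ⟨fil, hanti, fun _ => 2, fun pq => ⟨by omega, fun r h₀ h => ?_⟩, fun pq => (hβ pq).some⟩,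
    fun n => ⟨⟨0, show (if (0 : ℤ) ≤ 0 then (⊤ : Subobject (H n)) else ⊥) = ⊤ from if_pos le_rfl⟩,
      ⟨1, show (if (1 : ℤ) ≤ 0 then (⊤ : Subobject (H n)) else ⊥) = ⊥ from if_neg (by omega)⟩⟩, fun n => ?_, fun p q => ?_⟩
  · show (page L r).d _ _ = 0 ∧ (page L r).d _ _ = 0
    rw [page_of_ne L (by omega : r ≠ 1)]
    exact ⟨rfl, rfl⟩
  · refine (Finset.finite_toSet (Finset.Icc 0 n)).subset fun p hp => ?_
    by_contra hn
    refine hp ?_
    show IsZero ((page L 1).X (p, n - p))
    rw [page_one]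
    exact hbd (n - p) p (by simp only [Finset.coe_Icc, Set.mem_Icc, not_and_or, not_le] at hn; omega)
  · show Nonempty ((page L 1).X (p, q) ≅ _)
    rw [page_one]
    exact ⟨Iso.refl _⟩

end Groth.Agent.EtCore73.RowSS
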