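import Groth.Agent.EtFound.ExtZero
import Groth.Agent.EtFound.PushImm
import Groth.Agent.EtFound.PushOutside
import Groth.Agent.EtFound.CoprodSections
import Groth.Agent.EtFound.AbRecollement
import Mathlib.AlgebraicGeometry.Morphisms.Separated
import Mathlib.AlgebraicGeometry.Morphisms.FlatMono
import Mathlib.Data.DFinsupp.BigOperators

/-! `j_! ⟶ j_*` for separated etale `j` -/

universe u

open CategoryTheory CategoryTheory.Limits AlgebraicGeometry Opposite

namespace Groth.Agent.EtCore73.ShriekToStar

open Groth.Agent.EtFound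

set_option backward.isDefEq.respectTransparency false
set_option backward.isDefEq.respectTransparency.types false

variable {U X : Scheme.{u}} (j : U ⟶ X) [AlgebraicGeometry.Etale j]

/-- `W ×_X U` -/
noncomputable abbrev P (W : U.Etale) : U.Etale := (EtCoh.bc j).obj ((EtShriek.compEtale j).obj W)

noncomputable abbrev pfst (W : U.Etale) : (P j W).left ⟶ W.left :=
  pullback.fst ((EtShriek.compEtale j).obj W).hom j

/-- the graph -/
noncomputable def gr (W : U.Etale) : W ⟶ P j W :=
  MorphismProperty.Over.homMk (pullback.lift (𝟙 W.left) W.hom (Category.id_comp _))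
    (pullback.lift_snd _ _ _)

theorem gr_fst (W : U.Etale) : (gr j W).left ≫ pfst j W = 𝟙 W.left := pullback.lift_fst _ _ _

theorem gr_snd (W : U.Etale) : (gr j W).left ≫ (P j W).hom = W.hom := pullback.lift_snd _ _ _

theorem etale_gr (W : U.Etale) : AlgebraicGeometry.Etale (gr j W).left := etale_left _

theorem isOpenMap_gr (W : U.Etale) : IsOpen (Set.range (gr j W).left.base) :=
  have := etale_gr j W
  (gr j W).left.isOpenMap.isOpen_range

theorem isOpenImmersion_gr (W : U.Etale) : IsOpenImmersion (gr j W).left := by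
  have : AlgebraicGeometry.Etale (pfst j W) := inferInstanceAs (AlgebraicGeometry.Etale (pullback.fst _ j))
  have : IsOpenImmersion ((gr j W).left ≫ pfst j W) := by rw [gr_fst]; infer_instance
  exact isOpenImmersion_of_section (pfst j W) (gr j W).left (gr_fst j W)
where
  isOpenImmersion_of_section {A B : Scheme.{u}} (p : A ⟶ B) [AlgebraicGeometry.Etale p] (s : B ⟶ A)
      (h : s ≫ p = 𝟙 B) : IsOpenImmersion s := by
    have : AlgebraicGeometry.Etale (s ≫ p) := by rw [h]; infer_instance
    have : AlgebraicGeometry.Etale s := EtCoh.etaleMP.of_postcomp (W' := EtCoh.etaleMP) s p ‹_› ‹_›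
    have : Mono (s ≫ p) := by rw [h]; infer_instance
    have : Mono s := mono_of_mono s p
    exact IsOpenImmersion.of_flat_of_mono s

variable [IsSeparated j]

theorem isClosed_gr (W : U.Etale) : IsClosed (Set.range (gr j W).left.base) := by
  have : IsSeparated (pfst j W) := inferInstanceAs (IsSeparated (pullback.fst _ j))
  have : IsClosedImmersion ((gr j W).left ≫ pfst j W) := by rw [gr_fst]; infer_instance
  have := IsClosedImmersion.of_comp (gr j W).left (pfst j W)
  exact (gr j W).left.isClosedEmbedding.isClosed_range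

/-- complement of the graph -/
noncomputable def off (W : U.Etale) : (P j W).left.Opens :=
  ⟨(Set.range (gr j W).left.base)ᶜ, (isClosed_gr j W).isOpen_compl⟩

/-- the two pieces -/
noncomputable def pieces (W : U.Etale) : Bool → U.Etale :=
  fun b => Bool.rec (restrictEtale (P j W) (off j W)) W b

noncomputable def piecesHom (W : U.Etale) : ∀ b, pieces j W b ⟶ P j W :=
  fun b => Bool.rec (motive := fun b => pieces j W b ⟶ P j W) (restrictEtaleHom (P j W) (off j W)) (gr j W) b

theorem mono_of_left {S : Scheme.{u}} {A B : S.Etale} (f : A ⟶ B) (h : Mono f.left) : Mono f :=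
  ⟨fun a b hab => MorphismProperty.Over.Hom.ext
    (h.1 a.left b.left (congrArg (fun (k : _ ⟶ B) => k.left) hab))⟩

theorem bijective_pieces (F : EtCoh.Ab U) (W : U.Etale) :
    Function.Bijective (fun (t : F.obj.obj (op (P j W))) (b : Bool) => F.obj.map (piecesHom j W b).op t) := by
  have : ∀ b, Mono (piecesHom j W b) := fun b => mono_of_left _ (by
    cases b
    · exact (inferInstance : Mono (off j W).ι)
    · have := isOpenImmersion_gr j W
      exact (inferInstance : Mono (gr j W).left))
  refine bijective_sections_of_disjoint F (pieces j W) (piecesHom j W) (fun x => ?_) ?_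
  · by_cases hx : x ∈ Set.range (gr j W).left.base
    · obtain ⟨w, hw⟩ := hx
      exact ⟨true, w, hw⟩
    · exact ⟨false, (⟨x, hx⟩ : ↥(off j W)), rfl⟩
  · intro a b hab p q
    cases a <;> cases b
    · exact absurd rfl hab
    · intro h
      exact p.2 ⟨q, h.symm⟩
    · intro h
      exact q.2 ⟨p, h⟩
    · exact absurd rfl hab

/-- extension by zero off the graph -/
noncomputable def ext0 (F : EtCoh.Ab U) (W : U.Etale) (s : F.obj.obj (op W)) : F.obj.obj (op (P j W)) :=
  ((bijective_pieces j F W).2
    (fun b => Bool.rec (motive := fun b => F.obj.obj (op (pieces j W b))) 0 s b)).choose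

theorem ext0_gr (F : EtCoh.Ab U) (W : U.Etale) (s : F.obj.obj (op W)) :
    F.obj.map (gr j W).op (ext0 j F W s) = s :=
  congrFun ((bijective_pieces j F W).2
    (fun b => Bool.rec (motive := fun b => F.obj.obj (op (pieces j W b))) 0 s b)).choose_spec true

theorem ext0_off (F : EtCoh.Ab U) (W : U.Etale) (s : F.obj.obj (op W)) :
    F.obj.map (restrictEtaleHom (P j W) (off j W)).op (ext0 j F W s) = 0 :=
  congrFun ((bijective_pieces j F W).2
    (fun b => Bool.rec (motive := fun b => F.obj.obj (op (pieces j W b))) 0 s b)).choose_spec false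

theorem ext0_unique (F : EtCoh.Ab U) (W : U.Etale) (s : F.obj.obj (op W)) (t : F.obj.obj (op (P j W)))
    (h1 : F.obj.map (gr j W).op t = s)
    (h0 : F.obj.map (restrictEtaleHom (P j W) (off j W)).op t = 0) : t = ext0 j F W s := by
  refine (bijective_pieces j F W).1 (funext fun b => ?_)
  cases b
  · exact h0.trans (ext0_off j F W s).symm
  · exact h1.trans (ext0_gr j F W s).symm

variable {W W' : U.Etale} (g : W' ⟶ W)

/-- functoriality -/
noncomputable abbrev pMap : P j W' ⟶ P j W := (EtCoh.bc j).map ((EtShriek.compEtale j).map g)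

omit [IsSeparated j] in
theorem pMap_fst : (pMap j g).left ≫ pfst j W = pfst j W' ≫ g.left :=
  (EtCoh.isPullback_bc_map j ((EtShriek.compEtale j).map g)).w

omit [IsSeparated j] in
theorem gr_pMap : gr j W' ≫ pMap j g = g ≫ gr j W := by
  refine MorphismProperty.Over.Hom.ext (pullback.hom_ext ?_ ?_)
  · change ((gr j W').left ≫ (pMap j g).left) ≫ pfst j W = (g.left ≫ (gr j W).left) ≫ pfst j W
    rw [Category.assoc, pMap_fst, ← Category.assoc, gr_fst, Category.id_comp, Category.assoc, gr_fst,
      Category.comp_id]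
  · change ((gr j W').left ≫ (pMap j g).left) ≫ (P j W).hom = (g.left ≫ (gr j W).left) ≫ (P j W).hom
    rw [Category.assoc, MorphismProperty.Over.w (pMap j g), gr_snd, Category.assoc, gr_snd,
      MorphismProperty.Over.w g]

omit [IsSeparated j] in
theorem eq_gr_of_pMap {T : Scheme.{u}} (m : T ⟶ (P j W').left) (b : T ⟶ W.left)
    (h : m ≫ (pMap j g).left = b ≫ (gr j W).left) : (m ≫ pfst j W') ≫ (gr j W').left = m := by
  refine pullback.hom_ext ?_ ?_
  · change ((m ≫ pfst j W') ≫ (gr j W').left) ≫ pfst j W' = m ≫ pfst j W'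
    rw [Category.assoc, gr_fst, Category.comp_id]
  · change ((m ≫ pfst j W') ≫ (gr j W').left) ≫ (P j W').hom = m ≫ (P j W').hom
    have hb : b = m ≫ pfst j W' ≫ g.left := by
      rw [← pMap_fst, ← Category.assoc, h, Category.assoc, gr_fst, Category.comp_id]
    have hm : m ≫ (P j W').hom = b ≫ W.hom := by
      rw [← MorphismProperty.Over.w (pMap j g), ← Category.assoc, h, Category.assoc, gr_snd]
    rw [hm, hb, Category.assoc, gr_snd, Category.assoc, Category.assoc]
    exact congrArg (m ≫ ·) (((congrArg (pfst j W' ≫ ·) (MorphismProperty.Over.w g).symm)).trans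
      (Category.assoc _ _ _).symm)

theorem off_le : Set.range (((off j W').ι ≫ (pMap j g).left).base) ⊆ off j W := by
  rintro _ ⟨p, rfl⟩ ⟨w, hw⟩
  refine p.2 ?_
  set m := (P j W').left.fromSpecResidueField ((off j W').ι.base p)
  have hm : ∀ x, m.base x = (off j W').ι.base p := fun x => Scheme.fromSpecResidueField_apply _ x
  have := isOpenImmersion_gr j W
  have hr : Set.range (m ≫ (pMap j g).left).base ⊆ Set.range (gr j W).left.base := by
    rintro _ ⟨x, rfl⟩
    refine ⟨w, hw.trans ?_⟩
    rw [Scheme.Hom.comp_apply, Scheme.Hom.comp_apply, hm]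
  have h := eq_gr_of_pMap j g m (IsOpenImmersion.lift (gr j W).left (m ≫ (pMap j g).left) hr)
    (IsOpenImmersion.lift_fac _ _ _).symm
  refine ⟨(m ≫ pfst j W').base default, ?_⟩
  refine (Scheme.Hom.comp_apply _ _ _).symm.trans ?_
  rw [h]
  exact hm _

theorem exists_off_map : ∃ k : restrictEtale (P j W') (off j W') ⟶ restrictEtale (P j W) (off j W),
    restrictEtaleHom (P j W') (off j W') ≫ pMap j g = k ≫ restrictEtaleHom (P j W) (off j W) := by
  have hr : Set.range ((off j W').ι ≫ (pMap j g).left).base ⊆ Set.range (off j W).ι.base := by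
    rw [Scheme.Opens.range_ι]
    exact off_le j g
  refine ⟨MorphismProperty.Over.homMk (IsOpenImmersion.lift (off j W).ι _ hr) ?_, ?_⟩
  · change IsOpenImmersion.lift (off j W).ι _ hr ≫ (off j W).ι ≫ (P j W).hom = (off j W').ι ≫ (P j W').hom
    rw [IsOpenImmersion.lift_fac_assoc, Category.assoc, MorphismProperty.Over.w (pMap j g)]
  · exact MorphismProperty.Over.Hom.ext (IsOpenImmersion.lift_fac _ _ hr).symm

theorem ext0_natural (F : EtCoh.Ab U) (s : F.obj.obj (op W)) :
    F.obj.map (pMap j g).op (ext0 j F W s) = ext0 j F W' (F.obj.map g.op s) := by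
  refine ext0_unique j F W' _ _ ?_ ?_
  · rw [← ConcreteCategory.comp_apply, ← F.obj.map_comp, ← op_comp, gr_pMap, op_comp, F.obj.map_comp,
      ConcreteCategory.comp_apply, ext0_gr]
  · obtain ⟨k, hk⟩ := exists_off_map j g
    rw [← ConcreteCategory.comp_apply, ← F.obj.map_comp, ← op_comp, hk, op_comp, F.obj.map_comp,
      ConcreteCategory.comp_apply, ext0_off, map_zero]

section

variable [EtShriek.JCont j]

/-- sections extended by zero off the graph, as a map of sheaves -/
noncomputable def psi (F : EtCoh.Ab U) : F ⟶ (EtShriek.restrAlong j).obj ((EtCoh.push j).obj F) :=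
  ObjectProperty.homMk
    { app := fun W => AddCommGrpCat.ofHom
        { toFun := fun s => ext0 j F W.unop s
          map_zero' := (ext0_unique j F W.unop 0 0 (map_zero _) (map_zero _)).symm
          map_add' := fun a b => (ext0_unique j F W.unop _ (ext0 j F W.unop a + ext0 j F W.unop b)
            (by rw [map_add, ext0_gr, ext0_gr]) (by rw [map_add, ext0_off, ext0_off, add_zero])).symm }
      naturality := fun W W' g => by
        refine ConcreteCategory.hom_ext _ _ fun s => ?_
        exact (ext0_natural j g.unop F s).symm }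

theorem psi_natural {F G : EtCoh.Ab U} (a : F ⟶ G) :
    a ≫ psi j G = psi j F ≫ (EtShriek.restrAlong j).map ((EtCoh.push j).map a) := by
  refine Sheaf.hom_ext (NatTrans.ext (funext fun W => ConcreteCategory.hom_ext _ _ fun s => ?_))
  change ext0 j G W.unop (a.hom.app W s) = a.hom.app (op (P j W.unop)) (ext0 j F W.unop s)
  refine (ext0_unique j G W.unop _ _ ?_ ?_).symm
  · rw [← NatTrans.naturality_apply, ext0_gr]
  · rw [← NatTrans.naturality_apply, ext0_off, map_zero]

/-- the comparison -/
noncomputable def tau : EtShriek.extZero j ⟶ EtCoh.push j where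
  app F := ((EtShriek.extZeroAdj j).homEquiv F ((EtCoh.push j).obj F)).symm (psi j F)
  naturality F G a := by
    apply ((EtShriek.extZeroAdj j).homEquiv _ _).injective
    rw [Adjunction.homEquiv_naturality_left, Equiv.apply_symm_apply, Adjunction.homEquiv_naturality_right,
      Equiv.apply_symm_apply]
    exact psi_natural j a

theorem unit_tau (F : EtCoh.Ab U) :
    (EtShriek.extZeroAdj j).unit.app F ≫ (EtShriek.restrAlong j).map ((tau j).app F) = psi j F := by
  exact ((EtShriek.extZeroAdj j).homEquiv_unit _ _ ((tau j).app F)).symm.trans (Equiv.apply_symm_apply _ _)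

variable {Ω : Type u} [Field Ω] [IsSepClosed Ω] (z' : Spec (CommRingCat.of Ω) ⟶ U)

/-- the projection to a summand -/
noncomputable def proj (F : EtCoh.Ab U) :
    (Scheme.pointSmallEtale (z' ≫ j)).sheafFiber.obj ((EtShriek.extZero j).obj F) ⟶
      (Scheme.pointSmallEtale z').sheafFiber.obj F :=
  (Scheme.pointSmallEtale (z' ≫ j)).sheafFiber.map ((tau j).app F) ≫
    pushStalkMap (A := AddCommGrpCat.{u + 1}) j z' F

theorem proj_germ (F : EtCoh.Ab U) (z : PtsOver j (z' ≫ j)) (W : U.Etale)
    (w : (Scheme.pointSmallEtale z.1).fiber.obj W) (s : F.obj.obj (op W)) :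
    (extZeroι (A := AddCommGrpCat.{u + 1}) j (z' ≫ j) F z ≫ proj j z' F)
        ((Scheme.pointSmallEtale z.1).toPresheafFiber W w F.obj s) =
      (Scheme.pointSmallEtale z').toPresheafFiber (P j W)
        ((bcFiberEquiv j z' ((EtShriek.compEtale j).obj W)).symm (extLiftPt z W w)) F.obj (ext0 j F W s) := by
  have h1 := ConcreteCategory.congr_hom (extZeroι_germ (A := AddCommGrpCat.{u + 1}) j (z' ≫ j) F z W w) s
  refine (ConcreteCategory.comp_apply _ _ _).trans ((congrArg (proj j z' F) h1).trans ?_)
  refine (ConcreteCategory.comp_apply _ _ _).trans ?_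
  have h2 := (Scheme.pointSmallEtale (z' ≫ j)).toPresheafFiber_naturality_apply ((tau j).app F).hom
    ((EtShriek.compEtale j).obj W) (extLiftPt z W w) (((EtShriek.extZeroAdj j).unit.app F).hom.app (op W) s)
  have h3 : ((tau j).app F).hom.app (op ((EtShriek.compEtale j).obj W))
      (((EtShriek.extZeroAdj j).unit.app F).hom.app (op W) s) = ext0 j F W s :=
    ConcreteCategory.congr_hom (congr(($(unit_tau j F)).hom.app (op W))) s
  have h4 := ConcreteCategory.congr_hom (pushStalkMap_germ (A := AddCommGrpCat.{u + 1}) j z' F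
    ((EtShriek.compEtale j).obj W)
    ((bcFiberEquiv j z' ((EtShriek.compEtale j).obj W)).symm (extLiftPt z W w))) (ext0 j F W s)
  rw [ConcreteCategory.comp_apply, Equiv.apply_symm_apply] at h4
  refine Eq.trans (congrArg (pushStalkMap (A := AddCommGrpCat.{u + 1}) j z' F) ?_) h4
  exact h2.trans (congrArg _ h3)

theorem proj_self (F : EtCoh.Ab U) :
    extZeroι (A := AddCommGrpCat.{u + 1}) j (z' ≫ j) F ⟨z', rfl⟩ ≫ proj j z' F = 𝟙 _ := by
  refine (Scheme.pointSmallEtale z').presheafFiber_hom_ext fun W w => ConcreteCategory.hom_ext _ _ fun s => ?_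
  refine (proj_germ j z' F ⟨z', rfl⟩ W w s).trans ?_
  have e : (bcFiberEquiv j z' ((EtShriek.compEtale j).obj W)).symm
      (extLiftPt (⟨z', rfl⟩ : PtsOver j (z' ≫ j)) W w) = (Scheme.pointSmallEtale z').fiber.map (gr j W) w := by
    refine CategoryTheory.Over.OverMorphism.ext (pullback.hom_ext ?_ ?_)
    · refine (pullback.lift_fst _ _ _).trans ?_
      exact (((Category.assoc _ _ _).trans (congrArg ((w.left : Spec (CommRingCat.of Ω) ⟶ W.left) ≫ ·) (gr_fst j W))).trans
        (Category.comp_id _)).symm
    · refine (pullback.lift_snd _ _ _).trans ?_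
      exact ((Category.assoc _ _ _).trans ((congrArg ((w.left : Spec (CommRingCat.of Ω) ⟶ W.left) ≫ ·) (gr_snd j W)).trans
        (CategoryTheory.Over.w w))).symm
  refine (congrArg (fun t => (Scheme.pointSmallEtale z').toPresheafFiber (P j W) t F.obj (ext0 j F W s)) e).trans ?_
  refine ((Scheme.pointSmallEtale z').toPresheafFiber_w_apply (gr j W) w F.obj (ext0 j F W s)).symm.trans ?_
  exact congrArg _ (ext0_gr j F W s)

theorem proj_other (F : EtCoh.Ab U) (z : PtsOver j (z' ≫ j)) (hz : z.1 ≠ z') :
    extZeroι (A := AddCommGrpCat.{u + 1}) j (z' ≫ j) F z ≫ proj j z' F = 0 := by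
  refine (Scheme.pointSmallEtale z.1).presheafFiber_hom_ext fun W w => ConcreteCategory.hom_ext _ _ fun s => ?_
  refine (proj_germ j z' F z W w s).trans ?_
  set t := (bcFiberEquiv j z' ((EtShriek.compEtale j).obj W)).symm (extLiftPt z W w)
  have ht : (t.left : Spec (CommRingCat.of Ω) ⟶ (P j W).left).base (default : Spec (CommRingCat.of Ω)) ∈ off j W := by
    rintro ⟨v, hv⟩
    obtain ⟨w', hw', -⟩ := exists_lift_point (gr j W) t v hv
    refine hz ?_
    have h1 : (w'.left : Spec (CommRingCat.of Ω) ⟶ W.left) ≫ (gr j W).left = t.left :=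
      congrArg (fun k => k.left) hw'
    have h2 : (w'.left : Spec (CommRingCat.of Ω) ⟶ W.left) = (w.left : Spec (CommRingCat.of Ω) ⟶ W.left) := by
      refine ((Category.comp_id _).symm.trans (congrArg ((w'.left : Spec (CommRingCat.of Ω) ⟶ W.left) ≫ ·) (gr_fst j W).symm)).trans ?_
      refine (Category.assoc _ _ _).symm.trans ((congrArg (· ≫ pfst j W) h1).trans ?_)
      exact pullback.lift_fst _ _ _
    exact (CategoryTheory.Over.w w).symm.trans ((congrArg (· ≫ W.hom) h2.symm).trans (CategoryTheory.Over.w w'))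
  obtain ⟨t', ht', -⟩ := exists_lift_point (restrictEtaleHom (P j W) (off j W)) t ⟨_, ht⟩ rfl
  rw [← ht']
  refine ((Scheme.pointSmallEtale z').toPresheafFiber_w_apply _ t' F.obj (ext0 j F W s)).symm.trans ?_
  rw [ext0_off, map_zero]
  rfl

end

/-- in a coproduct of groups the projections detect zero -/
theorem eq_zero_of_proj {ι : Type u} {G : ι → AddCommGrpCat.{u + 1}} {M : AddCommGrpCat.{u + 1}}
    {inc : ∀ z, G z ⟶ M} (hc : IsColimit (Cofan.mk M inc)) (π : ∀ z, M ⟶ G z)
    (h1 : ∀ z, inc z ≫ π z = 𝟙 _) (h0 : ∀ z z', z ≠ z' → inc z ≫ π z' = 0)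
    (a : M) (ha : ∀ z, π z a = 0) : a = 0 := by
  classical
  let D : AddCommGrpCat.{u + 1} := AddCommGrpCat.of (Π₀ z, G z)
  let Φ : M ⟶ D := Cofan.IsColimit.desc hc fun z => AddCommGrpCat.ofHom (DFinsupp.singleAddHom (fun z => G z) z)
  have hΦ : ∀ z (x : G z), Φ (inc z x) = DFinsupp.single z x := fun z x =>
    ConcreteCategory.congr_hom (Cofan.IsColimit.fac hc _ z) x
  let S : D ⟶ M := AddCommGrpCat.ofHom (DFinsupp.sumAddHom fun z => (inc z).hom)
  have h : Φ ≫ S = 𝟙 M := Cofan.IsColimit.hom_ext hc _ _ fun z => ConcreteCategory.hom_ext _ _ fun x => by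
    change DFinsupp.sumAddHom (fun z => (inc z).hom) (Φ (inc z x)) = inc z x
    rw [hΦ, DFinsupp.sumAddHom_single]
  have hev : ∀ z, Φ ≫ AddCommGrpCat.ofHom (DFinsupp.evalAddMonoidHom (β := fun z => G z) z) = π z := fun z =>
    Cofan.IsColimit.hom_ext hc _ _ fun z' => ConcreteCategory.hom_ext _ _ fun x => by
      change (Φ (inc z' x)) z = π z (inc z' x)
      rw [hΦ]
      by_cases e : z' = z
      · subst e
        rw [DFinsupp.single_eq_same]
        exact (ConcreteCategory.congr_hom (h1 z') x).symm
      · rw [DFinsupp.single_eq_of_ne (Ne.symm e)]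
        exact (ConcreteCategory.congr_hom (h0 z' z e) x).symm
  have hz : Φ a = 0 := DFinsupp.ext fun z => (ConcreteCategory.congr_hom (hev z) a).trans (ha z)
  rw [← ConcreteCategory.id_apply a (X := M), ← h, ConcreteCategory.comp_apply, hz, map_zero]

variable [EtShriek.JCont j]

theorem mono_tau (F : EtCoh.Ab U) : Mono ((tau j).app F) := by
  refine (mono_iff_stalks _).2 fun Ω _ _ ξ => (injective_iff_map_eq_zero _).2 fun a ha => ?_
  classical
  refine eq_zero_of_proj (extZeroCofanIsColimit (A := AddCommGrpCat.{u + 1}) j ξ F)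
    (fun z => ?_) ?_ ?_ a ?_
  · exact eqToHom (by rw [z.2]) ≫ proj j z.1 F
  · rintro ⟨z, rfl⟩
    exact (congrArg (_ ≫ ·) (Category.id_comp _)).trans (proj_self j z F)
  · rintro z ⟨z', rfl⟩ hne
    exact (congrArg (_ ≫ ·) (Category.id_comp _)).trans (proj_other j z' F z fun e => hne (Subtype.ext e))
  · rintro ⟨z, rfl⟩
    change pushStalkMap (A := AddCommGrpCat.{u + 1}) j z F
      ((Scheme.pointSmallEtale (z ≫ j)).sheafFiber.map ((tau j).app F) a) = 0
    exact (congrArg _ ha).trans (map_zero _)

end Groth.Agent.EtCore73.ShriekToStar
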