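import Groth.Agent.EtCore73.RowSS
import Groth.Agent.Trace051.Via
import Groth.Agent.EtBCA.PullId
import Mathlib.AlgebraicTopology.AlternatingFaceMapComplex
import Mathlib.CategoryTheory.Limits.Shapes.WidePullbacks
import Mathlib.Algebra.Homology.Embedding.ExtendHomology

/-!
# Descent along a morphism with a section: the Čech complexes of cohomology groups are split
-/

universe u

set_option autoImplicit false
set_option backward.isDefEq.respectTransparency false
set_option backward.isDefEq.respectTransparency.types false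

open CategoryTheory CategoryTheory.Limits AlgebraicGeometry Opposite CategoryTheory.Abelian Simplicial

namespace Groth.Agent.EtCore73.SplitDescent

section Ext

variable {C D : Type*} [Category* C] [Category* D] [Abelian C] [Abelian D] [EnoughInjectives C]

theorem mapExactFunctor_id' [HasExt.{u + 1} C] {A B : C} {n : ℕ} (α : Ext A B n) :
    α.mapExactFunctor (𝟭 C) = α := by
  induction α using EtMVLib.ext_induction with
  | h0 A B f => exact Ext.mapExactFunctor_mk₀ _ f
  | hs A hS β ih =>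
    rw [Ext.mapExactFunctor_comp, ih, Ext.mapExactFunctor_extClass]

end Ext

theorem bijective_Hpull_id (X : Scheme.{u}) [PreservesFiniteLimits (EtCoh.pull (𝟙 X))] (G : EtCoh.Ab X) (n : ℕ) :
    Function.Bijective (EtCore.Hpull (𝟙 X) G n) := by
  let e := EtBCA.pullIdIso X
  let c := (EtCore.pullConst (𝟙 X) ℤ).inv
  let m := c ≫ e.hom.app (EtCoh.const X ℤ)
  have key : ∀ ξ, (EtCoh.HF X n).map (e.hom.app G) (EtCore.Hpull (𝟙 X) G n ξ) =
      (Ext.mk₀ m).comp (show Ext (EtCoh.const X ℤ) G n from ξ) (zero_add n) := fun ξ => by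
    rw [EtBCA.HF_map_apply, EtMVLib.Hpull_apply, Ext.comp_assoc_of_third_deg_zero,
      EtMVLib.mapExactFunctor_natTrans _ _ e.hom, mapExactFunctor_id', Ext.mk₀_comp_mk₀_assoc]
  have h := EtBCA.HF_map_bijective (e.hom.app G) n
  refine ⟨fun a b hab => ?_, fun y => ?_⟩
  · have h1 := congrArg (fun q => (Ext.mk₀ (inv m)).comp q (zero_add n))
      ((key a).symm.trans ((congrArg ((EtCoh.HF X n).map (e.hom.app G)) hab).trans (key b)))
    simp only [Ext.mk₀_comp_mk₀_assoc, IsIso.inv_hom_id, Ext.mk₀_id_comp] at h1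
    exact h1
  · refine ⟨(Ext.mk₀ (inv m)).comp ((EtCoh.HF X n).map (e.hom.app G) y) (zero_add n), h.1 ?_⟩
    rw [key, Ext.mk₀_comp_mk₀_assoc, IsIso.hom_inv_id, Ext.mk₀_id_comp]

variable {Y : Scheme.{u}} (F : EtCoh.Ab Y) (q : ℕ)

/-- cohomology of the pullback -/
noncomputable abbrev Hb (T : Over Y) : AddCommGrpCat.{u + 1} :=
  AddCommGrpCat.of (EtCoh.H T.left ((EtCoh.pull T.hom).obj F) q)

variable [Fact FinFr.PullExact.{u}]

/-- pullback maps -/
noncomputable def res {T T' : Over Y} (φ : T' ⟶ T) : Hb F q T ⟶ Hb F q T' :=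
  AddCommGrpCat.ofHom (Trace051.Via φ.left T.hom T'.hom (Over.w φ) F q)

theorem res_comp {T T' T'' : Over Y} (a : T'' ⟶ T') (b : T' ⟶ T) :
    res F q (a ≫ b) = res F q b ≫ res F q a :=
  AddCommGrpCat.hom_ext (AddMonoidHom.ext fun y =>
    (Trace051.via_comp a.left b.left T.hom T'.hom T''.hom (Over.w b) (Over.w a)
      ((Category.assoc _ _ _).trans ((congrArg (a.left ≫ ·) (Over.w b)).trans (Over.w a))) F q y).symm)

theorem res_id (T : Over Y) : res F q (𝟙 T) = 𝟙 _ := by
  refine AddCommGrpCat.hom_ext (AddMonoidHom.ext fun y => ?_)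
  haveI := FinFr.pullExact_out (𝟙 T.left)
  have hb : Function.Bijective (Trace051.Via (𝟙 T.left) T.hom T.hom (Category.id_comp _) F q) :=
    (EtBCA.HF_map_bijective (Trace051.viaHom (𝟙 T.left) T.hom T.hom (Category.id_comp _) F) q).comp
      (bijective_Hpull_id T.left _ q)
  refine hb.1 ?_
  show Trace051.Via (𝟙 T.left) T.hom T.hom _ F q (Trace051.Via (𝟙 T.left) T.hom T.hom _ F q y) = _
  rw [Trace051.via_comp (𝟙 T.left) (𝟙 T.left) T.hom T.hom T.hom (Category.id_comp _) (Category.id_comp _)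
    (by rw [Category.id_comp, Category.id_comp])]
  exact Trace051.via_congr (Category.id_comp _) _ _ _ _ F q y

variable {X : Scheme.{u}} (f : X ⟶ Y)

/-- the fibre powers -/
noncomputable abbrev pw (n : ℕ) : Over Y :=
  Over.mk (WidePullback.base (fun _ : Fin (n + 1) => f) :
    widePullback Y (fun _ : Fin (n + 1) => X) (fun _ => f) ⟶ Y)

/-- maps of indices -/
noncomputable def pwMap {m n : ℕ} (a : Fin (m + 1) → Fin (n + 1)) : pw f n ⟶ pw f m :=
  Over.homMk (WidePullback.lift (WidePullback.base _) (fun k => WidePullback.π _ (a k))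
    fun k => WidePullback.π_arrow _ _) (WidePullback.lift_base _ _ _ _)

theorem pw_hom_ext {T : Over Y} {n : ℕ} {a b : T ⟶ pw f n}
    (h : ∀ k, a.left ≫ WidePullback.π (fun _ : Fin (n + 1) => f) k = b.left ≫ WidePullback.π _ k) : a = b :=
  Over.OverMorphism.ext (WidePullback.hom_ext _ a.left b.left h ((Over.w a).trans (Over.w b).symm))

theorem pwMap_π {m n : ℕ} (a : Fin (m + 1) → Fin (n + 1)) (k : Fin (m + 1)) :
    (pwMap f a).left ≫ WidePullback.π (fun _ : Fin (m + 1) => f) k = WidePullback.π _ (a k) :=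
  WidePullback.lift_π _ _ _ _ _

/-- the cosimplicial group -/
noncomputable def cosimp : CosimplicialObject AddCommGrpCat.{u + 1} where
  obj x := Hb F q (pw f x.len)
  map φ := res F q (pwMap f φ.toOrderHom)
  map_id x := by
    refine Eq.trans (congrArg (res F q) ?_) (res_id F q _)
    exact pw_hom_ext f fun k => (pwMap_π f _ k).trans (Category.id_comp _).symm
  map_comp {x y z} φ ψ := by
    refine Eq.trans (congrArg (res F q) ?_) (res_comp F q _ _)
    refine pw_hom_ext f fun k => ?_
    rw [Over.comp_left, Category.assoc, pwMap_π, pwMap_π, pwMap_π]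
    rfl

variable (s : Y ⟶ X) (hs : s ≫ f = 𝟙 Y)

/-- insertion of the section -/
noncomputable def ins (n : ℕ) : pw f n ⟶ pw f (n + 1) :=
  Over.homMk (WidePullback.lift (WidePullback.base _)
    (Fin.cases (WidePullback.base (fun _ : Fin (n + 1) => f) ≫ s) fun k => WidePullback.π _ k)
    (Fin.cases (by simp [hs]) fun k => by simp)) (WidePullback.lift_base _ _ _ _)

theorem ins_π_zero (n : ℕ) :
    (ins f s hs n).left ≫ WidePullback.π (fun _ : Fin (n + 2) => f) 0 = WidePullback.base _ ≫ s :=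
  WidePullback.lift_π _ _ _ _ _

theorem ins_π_succ (n : ℕ) (k : Fin (n + 1)) :
    (ins f s hs n).left ≫ WidePullback.π (fun _ : Fin (n + 2) => f) k.succ = WidePullback.π _ k :=
  WidePullback.lift_π _ _ _ _ _

/-- coface maps on fibre powers -/
noncomputable abbrev face (n : ℕ) (i : Fin (n + 2)) : pw f (n + 1) ⟶ pw f n := pwMap f i.succAbove

theorem ins_face_zero (n : ℕ) : ins f s hs n ≫ face f n 0 = 𝟙 _ :=
  pw_hom_ext f fun k => by
    rw [Over.comp_left, Category.assoc, pwMap_π, Fin.succAbove_zero, ins_π_succ, Over.id_left, Category.id_comp]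

theorem ins_face_succ (n : ℕ) (i : Fin (n + 2)) :
    ins f s hs (n + 1) ≫ face f (n + 1) i.succ = face f n i ≫ ins f s hs n :=
  pw_hom_ext f fun k => by
    rw [Over.comp_left, Over.comp_left, Category.assoc, Category.assoc, pwMap_π]
    refine Fin.cases ?_ (fun j => ?_) k
    · rw [Fin.succ_succAbove_zero, ins_π_zero, ins_π_zero, ← Category.assoc]
      exact congrArg (· ≫ s) (Over.w (face f n i)).symm
    · rw [Fin.succ_succAbove_succ, ins_π_succ, ins_π_succ, pwMap_π]

/-- the augmentation target -/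
noncomputable abbrev base₀ : Over Y := Over.mk (𝟙 Y)

/-- the augmentation -/
noncomputable def augm : pw f 0 ⟶ base₀ (Y := Y) := Over.homMk (WidePullback.base _) (Category.comp_id _)

/-- the section of the augmentation -/
noncomputable def sec : base₀ (Y := Y) ⟶ pw f 0 :=
  Over.homMk (WidePullback.lift (𝟙 Y) (fun _ => s) fun _ => hs) (WidePullback.lift_base _ _ _ _)

theorem sec_augm : sec f s hs ≫ augm f = 𝟙 _ := Over.OverMorphism.ext (WidePullback.lift_base _ _ _ _)

theorem ins_face_one : ins f s hs 0 ≫ face f 0 1 = augm f ≫ sec f s hs :=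
  pw_hom_ext f fun k => by
    obtain rfl : k = 0 := Fin.ext (by omega)
    rw [Over.comp_left, Over.comp_left, Category.assoc, Category.assoc, pwMap_π]
    refine (ins_π_zero f s hs 0).trans (congrArg (WidePullback.base _ ≫ ·) ?_)
    exact (WidePullback.lift_π (fun _ : Fin (0 + 1) => f) (𝟙 Y) (fun _ => s) (fun _ => hs) 0).symm

/-- the differential -/
noncomputable def dd (n : ℕ) : Hb F q (pw f n) ⟶ Hb F q (pw f (n + 1)) :=
  ∑ i : Fin (n + 2), (-1 : ℤ) ^ (i : ℕ) • res F q (face f n i)

theorem dd_dd (n : ℕ) : dd F q f n ≫ dd F q f (n + 1) = 0 :=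
  AlgebraicTopology.AlternatingCofaceMapComplex.d_squared (cosimp F q f) n

/-- the complex -/
noncomputable def cx : CochainComplex AddCommGrpCat.{u + 1} ℕ :=
  CochainComplex.of (fun n => Hb F q (pw f n)) (dd F q f) (dd_dd F q f)

theorem cx_d (n : ℕ) : (cx F q f).d n (n + 1) = dd F q f n :=
  CochainComplex.of_d (fun n => Hb F q (pw f n)) (dd F q f) n

theorem homotopy_succ (n : ℕ) :
    dd F q f (n + 1) ≫ res F q (ins f s hs (n + 1)) + res F q (ins f s hs n) ≫ dd F q f n = 𝟙 _ := by
  have hz : ∀ i : Fin (n + 2), ((-1 : ℤ) ^ (i.succ : ℕ) • res F q (face f (n + 1) i.succ)) ≫ res F q (ins f s hs (n + 1)) +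
      res F q (ins f s hs n) ≫ ((-1 : ℤ) ^ (i : ℕ) • res F q (face f n i)) = 0 := fun i => by
    rw [Preadditive.zsmul_comp, Preadditive.comp_zsmul, ← res_comp, ← res_comp, ins_face_succ, Fin.val_succ,
      pow_succ, mul_neg_one, neg_smul]
    exact neg_add_cancel _
  rw [dd, dd, Preadditive.sum_comp, Preadditive.comp_sum, Fin.sum_univ_succ, add_assoc, ← Finset.sum_add_distrib,
    Finset.sum_eq_zero fun i _ => hz i, add_zero, Fin.val_zero, pow_zero, one_smul, ← res_comp, ins_face_zero, res_id]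

theorem homotopy_zero :
    dd F q f 0 ≫ res F q (ins f s hs 0) + res F q (sec f s hs) ≫ res F q (augm f) = 𝟙 _ := by
  rw [dd, Preadditive.sum_comp, Fin.sum_univ_two, Preadditive.zsmul_comp, Preadditive.zsmul_comp, ← res_comp,
    ← res_comp, ← res_comp, ins_face_zero, ins_face_one, res_id]
  simp

theorem augm_d : res F q (augm f) ≫ dd F q f 0 = 0 := by
  have h : face f 0 0 ≫ augm f = face f 0 1 ≫ augm f :=
    Over.OverMorphism.ext ((Over.w (face f 0 0)).trans (Over.w (face f 0 1)).symm)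
  rw [dd, Preadditive.comp_sum, Fin.sum_univ_two, Preadditive.comp_zsmul, Preadditive.comp_zsmul, ← res_comp,
    ← res_comp, h]
  simp

include hs in
theorem exactAt_succ (n : ℕ) : (cx F q f).ExactAt (n + 1) := by
  rw [(cx F q f).exactAt_iff' n (n + 1) (n + 2) (by simp) (by simp), ShortComplex.ab_exact_iff]
  intro x hx
  refine ⟨res F q (ins f s hs n) x, ?_⟩
  have h := ConcreteCategory.congr_hom (homotopy_succ F q f s hs n) x
  change res F q (ins f s hs (n + 1)) (dd F q f (n + 1) x) + dd F q f n (res F q (ins f s hs n) x) = x at h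
  rw [show dd F q f (n + 1) x = 0 from (ConcreteCategory.congr_hom (cx_d F q f (n + 1)) x).symm.trans hx,
    map_zero, zero_add] at h
  exact (ConcreteCategory.congr_hom (cx_d F q f n) _).trans h

include hs in
theorem nonempty_homology_zero :
    Nonempty ((cx F q f).homology 0 ≅ Hb F q (base₀ (Y := Y))) := by
  haveI : Mono (res F q (augm f)) := (⟨⟨res F q (sec f s hs), by
    rw [← res_comp, sec_augm, res_id]⟩⟩ : IsSplitMono (res F q (augm f))).mono
  let S : ShortComplex AddCommGrpCat.{u + 1} := ShortComplex.mk _ _ (augm_d F q f)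
  have hd : (cx F q f).d 0 1 = dd F q f 0 := cx_d F q f 0
  have hS : S.Exact := S.ab_exact_iff.2 fun x hx => ⟨res F q (sec f s hs) x, by
    have h := ConcreteCategory.congr_hom (homotopy_zero F q f s hs) x
    change res F q (ins f s hs 0) (dd F q f 0 x) + res F q (augm f) (res F q (sec f s hs) x) = x at h
    rw [show dd F q f 0 x = 0 from hx, map_zero, zero_add] at h
    exact h⟩
  haveI := (cx F q f).isIso_homologyπ 0 0 (by simp) (by simp)
  exact ⟨(asIso ((cx F q f).homologyπ 0)).symm ≪≫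
    IsLimit.conePointUniqueUpToIso ((cx F q f).cyclesIsKernel 0 1 (by simp))
      (IsKernel.ofCompIso (f := dd F q f 0) ((cx F q f).d 0 1) (Iso.refl _) ((Category.comp_id _).trans hd)
        hS.fIsKernel)⟩

omit [Fact FinFr.PullExact.{u}] in
theorem nonempty_base : Nonempty (Hb F q (base₀ (Y := Y)) ≅ AddCommGrpCat.of (EtCoh.H Y F q)) :=
  ⟨(EtCoh.HF Y q).mapIso ((EtBCA.pullIdIso Y).app F)⟩

omit [Fact FinFr.PullExact.{u}] in
include s hs in
/-- the spectral sequence -/
theorem exists_spectralSequence :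
    ∃ (E : CohomologicalSpectralSequence AddCommGrpCat.{u + 1} 1)
      (a : SpSeq.Abutment E (fun n : ℤ =>
        if 0 ≤ n then AddCommGrpCat.of (EtCoh.H Y F n.toNat) else AddCommGrpCat.of PUnit.{u + 2})),
      (∀ n, a.IsFinite n) ∧ SpSeq.IsBounded E ∧
      ∀ p q : ℤ, Nonempty ((E.page 1 le_rfl).X (p, q) ≅
        (if 0 ≤ p ∧ 0 ≤ q then Hb F q.toNat (pw f p.toNat) else AddCommGrpCat.of PUnit.{u + 2})) := by
  haveI : Fact FinFr.PullExact.{u} := ⟨fun _ _ g => EtFound.pull_preservesFiniteLimits g⟩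
  let L : ℤ → CochainComplex AddCommGrpCat.{u + 1} ℤ := fun q =>
    if 0 ≤ q then (cx F q.toNat f).extend ComplexShape.embeddingUpNat else HomologicalComplex.zero
  have hz : IsZero (AddCommGrpCat.of PUnit.{u + 2}) := AddCommGrpCat.isZero_of_subsingleton _
  have h0 : ∀ q : ℤ, 0 ≤ q → L q = (cx F q.toNat f).extend ComplexShape.embeddingUpNat := fun q h => if_pos h
  have hneg : ∀ q : ℤ, q < 0 → IsZero (L q) := fun q h => by
    rw [show L q = HomologicalComplex.zero from if_neg (by omega)]
    exact HomologicalComplex.isZero_zero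
  have hnegX : ∀ q p : ℤ, q < 0 → IsZero ((L q).X p) := fun q p h =>
    (HomologicalComplex.eval _ _ p).map_isZero (hneg q h)
  have hpX : ∀ q p : ℤ, p < 0 → IsZero ((L q).X p) := fun q p h => by
    by_cases hq : 0 ≤ q
    · rw [h0 q hq]
      exact HomologicalComplex.isZero_extend_X _ _ _ fun i hi => by
        have hi : (i : ℤ) = p := hi
        omega
    · exact hnegX q p (by omega)
  obtain ⟨E, a, ha, hb, hE⟩ := RowSS.exists_of_column L
    (fun n : ℤ => if 0 ≤ n then AddCommGrpCat.of (EtCoh.H Y F n.toNat) else AddCommGrpCat.of PUnit.{u + 2})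
    (fun q p h => h.elim (hpX q p) (fun h => hnegX q p h)) (fun q p hp => by
      by_cases hp' : p < 0
      · exact (HomologicalComplex.ExactAt.of_isZero (hpX q p hp')).isZero_homology
      by_cases hq : 0 ≤ q
      · obtain ⟨n, rfl⟩ : ∃ n : ℕ, p = ((n + 1 : ℕ) : ℤ) := ⟨p.toNat - 1, by omega⟩
        rw [h0 q hq]
        exact ((exactAt_succ F q.toNat f s hs n).isZero_homology).of_iso
          ((cx F q.toNat f).extendHomologyIso ComplexShape.embeddingUpNat (j := n + 1) rfl)
      · exact (HomologicalComplex.ExactAt.of_isZero (hnegX q p (by omega))).isZero_homology)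
    (fun q => by
      by_cases hq : 0 ≤ q
      · rw [h0 q hq]
        obtain ⟨e⟩ := nonempty_homology_zero F q.toNat f s hs
        obtain ⟨e'⟩ := nonempty_base (Y := Y) F q.toNat
        exact ⟨(cx F q.toNat f).extendHomologyIso ComplexShape.embeddingUpNat (j := 0) rfl ≪≫ e ≪≫ e' ≪≫
          eqToIso (if_pos hq).symm⟩
      · exact ⟨(HomologicalComplex.ExactAt.of_isZero (hnegX q 0 (by omega))).isZero_homology.iso hz ≪≫
          eqToIso (if_neg hq).symm⟩)
  refine ⟨E, a, ha, hb, fun p q => ?_⟩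
  obtain ⟨e⟩ := hE p q
  by_cases h : 0 ≤ p ∧ 0 ≤ q
  · refine ⟨e ≪≫ eqToIso (congrArg (fun K => K.X p) (h0 q h.2)) ≪≫
      (cx F q.toNat f).extendXIso ComplexShape.embeddingUpNat (i := p.toNat) ?_ ≪≫ eqToIso (if_pos h).symm⟩
    show ((p.toNat : ℕ) : ℤ) = p
    omega
  · refine ⟨e ≪≫ IsZero.iso ?_ hz ≪≫ eqToIso (if_neg h).symm⟩
    by_cases hp : p < 0
    · exact hpX q p hp
    · exact hnegX q p (by omega)

end Groth.Agent.EtCore73.SplitDescent
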